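import Mathlib
import Cfsg.Prelude.Def_Sporadic_a
import Cfsg.Agent.Helper9.M23Sub.End
import Cfsg.Agent.Helper9.Golay.Syl2Thm
import Cfsg.Agent.Helper9.Golay.Elt3

set_option autoImplicit false

/-!
Tools for subgroups of given index in the group of the length-24 code: orbit arithmetic, fixed
points of elements of prime order, bounds from invariant sets, and subgroups containing the explicit
Sylow 2-subgroup.
-/

namespace Cfsg.Agent.Helper5.M24Sub

open Cfsg Cfsg.Agent.Helper9.Golay Cfsg.Agent.Helper9.M22Sub Cfsg.Agent.Helper9.M23Sub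
open scoped Pointwise

variable {H : Subgroup (Equiv.Perm GolayPt)}

/-- one step of the stabilizer chain, starting from the group itself. -/
theorem card_orb_mul (K : Subgroup (Equiv.Perm GolayPt)) (c : GolayPt) :
    Nat.card K = (orbF K c).card * Nat.card (K ⊓ fixL [c] : Subgroup (Equiv.Perm GolayPt)) := by
  have h := card_chain K [] c
  rw [fixL_nil_inf] at h
  exact h

theorem card_dvd_fix (hH : H ≤ M24) (l : List GolayPt) :
    Nat.card (H ⊓ fixL l : Subgroup (Equiv.Perm GolayPt)) ∣
      Nat.card (M24 ⊓ fixL l : Subgroup (Equiv.Perm GolayPt)) :=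
  Subgroup.card_dvd_of_le (inf_le_inf_right _ hH)

theorem card_fix2 (l : List GolayPt) (hl : l.Nodup) (h2 : l.length = 2) :
    Nat.card (M24 ⊓ fixL l : Subgroup (Equiv.Perm GolayPt)) = 443520 := by
  have hex : ∃ a, a ∉ l := by
    by_contra hcon
    push Not at hcon
    have h1 : Finset.univ ⊆ l.toFinset := fun x _ => List.mem_toFinset.mpr (hcon x)
    have h2' := Finset.card_le_card h1
    rw [Finset.card_univ, card_golay] at h2'
    have h3 := List.toFinset_card_le l
    omega
  obtain ⟨a, ha⟩ := hex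
  rw [card_fix_succ l hl (by omega) ha, card_fix3 (a :: l) (List.nodup_cons.mpr ⟨ha, hl⟩)
    (by simp [h2]), h2]

theorem card_fix1 (x : GolayPt) :
    Nat.card (M24 ⊓ fixL [x] : Subgroup (Equiv.Perm GolayPt)) = 10200960 := by
  obtain ⟨a, ha⟩ : ∃ a, a ∉ [x] := by
    by_contra hcon
    push Not at hcon
    have h1 : Finset.univ ⊆ ([x] : List GolayPt).toFinset :=
      fun y _ => List.mem_toFinset.mpr (hcon y)
    have h2' := Finset.card_le_card h1
    rw [Finset.card_univ, card_golay] at h2'
    have h3 : ([x] : List GolayPt).toFinset.card ≤ 1 := List.toFinset_card_le [x]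
    omega
  rw [card_fix_succ [x] (List.nodup_singleton x) (by simp) ha,
    card_fix2 [a, x] (by simpa using ha) rfl]
  simp

/-! ### elements of prime order -/

theorem fixF_card_five {g : Equiv.Perm GolayPt} (hg : g ∈ M24) (ho : orderOf g = 5) :
    (fixF g).card = 4 := by
  have : Fact (Nat.Prime 5) := ⟨by norm_num⟩
  have h1 := card_fixF_le hg ho (by norm_num)
  have h2 := card_fixF_modEq ho
  unfold Nat.ModEq at h2
  omega

theorem fixF_card_seven {g : Equiv.Perm GolayPt} (hg : g ∈ M24) (ho : orderOf g = 7) :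
    (fixF g).card = 3 := by
  have : Fact (Nat.Prime 7) := ⟨by norm_num⟩
  have h1 := card_fixF_le hg ho (by norm_num)
  have h2 := card_fixF_modEq ho
  unfold Nat.ModEq at h2
  omega

theorem fixF_card_eleven {g : Equiv.Perm GolayPt} (hg : g ∈ M24) (ho : orderOf g = 11) :
    (fixF g).card = 2 := by
  have : Fact (Nat.Prime 11) := ⟨by norm_num⟩
  have h1 := card_fixF_le hg ho (by norm_num)
  have h2 := card_fixF_modEq ho
  unfold Nat.ModEq at h2
  omega

theorem fixF_card_three {g : Equiv.Perm GolayPt} (hg : g ∈ M24) (ho : orderOf g = 3) :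
    (fixF g).card = 6 ∨ (fixF g).card = 0 := by
  obtain ⟨k, -, r, -, -, h⟩ := elt3_classify g hg ho
  rcases h with ⟨-, h⟩ | ⟨-, h⟩
  · left; exact h
  · right; exact h

/-- counting modulo a prime in an invariant set. -/
theorem inv_modEq {K : Subgroup (Equiv.Perm GolayPt)} {Y : Finset GolayPt} (hY : Inv K Y)
    {g : Equiv.Perm GolayPt} (hg : g ∈ K) {r : ℕ} [hr : Fact r.Prime] (ho : orderOf g = r) :
    Y.card ≡ (Y ∩ fixF g).card [MOD r] := by
  have hy : g ^ r = 1 := by rw [← ho]; exact pow_orderOf_eq_one g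
  have h1 := card_modEq_fixed hy Y (hY.iff hg)
  have h2 : Y.filter (fun a => g a = a) = Y ∩ fixF g := by
    ext a
    simp [mem_fixF]
  rw [h2] at h1
  exact h1

theorem exists_order_of_dvd {K : Subgroup (Equiv.Perm GolayPt)} (r : ℕ) [Fact r.Prime]
    (hr : r ∣ Nat.card K) : ∃ f ∈ K, orderOf f = r :=
  exists_order_prime r hr

/-! ### invariant sets and stabilizer chains -/

theorem inv_inf_fixL_cons {K : Subgroup (Equiv.Perm GolayPt)} {l : List GolayPt}
    {B : Finset GolayPt} (hB : Inv (K ⊓ fixL l) B) (b : GolayPt) :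
    Inv (K ⊓ fixL (b :: l)) (B.erase b) :=
  (hB.mono (fixL_cons_le K b l)).erase (fun _ hh => fix_of_mem_cons hh)

/-- a stabilizer chain through an invariant set of `k` points. -/
theorem chain_inv : ∀ (k : ℕ) (K : Subgroup (Equiv.Perm GolayPt)) (l : List GolayPt)
    (B : Finset GolayPt), Inv (K ⊓ fixL l) B → B.card = k → (∀ b ∈ B, b ∉ l) → l.Nodup →
    ∃ l' : List GolayPt, l'.Nodup ∧ l'.length = k + l.length ∧ (∀ b, b ∈ l' ↔ b ∈ B ∨ b ∈ l) ∧
      Nat.card (K ⊓ fixL l : Subgroup (Equiv.Perm GolayPt)) ≤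
        k.factorial * Nat.card (K ⊓ fixL l' : Subgroup (Equiv.Perm GolayPt)) := by
  intro k
  induction k with
  | zero =>
    intro K l B _ hc _ hl
    refine ⟨l, hl, by simp, ?_, by simp⟩
    intro b
    rw [Finset.card_eq_zero.mp hc]
    simp
  | succ k ih =>
    intro K l B hB hc hdisj hl
    obtain ⟨b, hb⟩ : B.Nonempty := Finset.card_pos.mp (by omega)
    have hbl : b ∉ l := hdisj b hb
    have hB' := inv_inf_fixL_cons hB b
    have hc' : (B.erase b).card = k := by rw [Finset.card_erase_of_mem hb, hc]; rfl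
    obtain ⟨l', hl'n, hl'len, hl'mem, hl'card⟩ := ih K (b :: l) (B.erase b) hB' hc'
      (by
        intro b' hb' hmem
        rw [Finset.mem_erase] at hb'
        rcases List.mem_cons.mp hmem with h | h
        · exact hb'.1 h
        · exact hdisj b' hb'.2 h)
      (List.nodup_cons.mpr ⟨hbl, hl⟩)
    refine ⟨l', hl'n, by rw [hl'len, List.length_cons]; omega, ?_, ?_⟩
    · intro b'
      rw [hl'mem, Finset.mem_erase, List.mem_cons]
      constructor
      · rintro (⟨-, h⟩ | rfl | h)
        · exact Or.inl h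
        · exact Or.inl hb
        · exact Or.inr h
      · rintro (h | h)
        · by_cases e : b' = b
          · exact Or.inr (Or.inl e)
          · exact Or.inl ⟨e, h⟩
        · exact Or.inr (Or.inr h)
    · have h1 := card_chain K l b
      have h2 : (orbF (K ⊓ fixL l) b).card ≤ k + 1 := by
        rw [← hc]; exact Finset.card_le_card (hB.orbF_sub hb)
      rw [h1, Nat.factorial_succ]
      calc (orbF (K ⊓ fixL l) b).card * Nat.card (K ⊓ fixL (b :: l) : Subgroup (Equiv.Perm GolayPt))
          ≤ (k + 1) * (k.factorial * Nat.card (K ⊓ fixL l' : Subgroup (Equiv.Perm GolayPt))) :=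
            Nat.mul_le_mul h2 hl'card
        _ = (k + 1) * k.factorial * Nat.card (K ⊓ fixL l' : Subgroup (Equiv.Perm GolayPt)) := by
            ring

theorem card_fix6_le (l : List GolayPt) (hl : l.Nodup) (h6 : l.length = 6) :
    Nat.card (M24 ⊓ fixL l : Subgroup (Equiv.Perm GolayPt)) ≤ 16 := by
  match l, h6 with
  | [a0, a1, a2, a3, a4, a5], _ =>
    rcases card_fix6 a0 a1 a2 a3 a4 a5 hl with h | h <;> rw [h] <;> norm_num

theorem card_le_fix (hH : H ≤ M24) (l : List GolayPt) :
    Nat.card (H ⊓ fixL l : Subgroup (Equiv.Perm GolayPt)) ≤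
      Nat.card (M24 ⊓ fixL l : Subgroup (Equiv.Perm GolayPt)) :=
  Nat.le_of_dvd Nat.card_pos (card_dvd_fix hH l)

/-! ### orbits of pointwise stabilizers -/

/-- the order divides the product of the length of an orbit and the order of the next
stabilizer in the whole group. -/
theorem orb_dvd (hH : H ≤ M24) (l : List GolayPt) (c : GolayPt) :
    Nat.card (H ⊓ fixL l : Subgroup (Equiv.Perm GolayPt)) ∣
      (orbF (H ⊓ fixL l) c).card * Nat.card (M24 ⊓ fixL (c :: l) : Subgroup (Equiv.Perm GolayPt)) := by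
  rw [card_chain H l c]
  exact Nat.mul_dvd_mul_left _ (card_dvd_fix hH (c :: l))

theorem orbF_fix_notMem {K : Subgroup (Equiv.Perm GolayPt)} {l : List GolayPt} {a b : GolayPt}
    (ha : a ∉ l) (hb : b ∈ orbF (K ⊓ fixL l) a) : b ∉ l := by
  obtain ⟨g, hg, rfl⟩ := mem_orbF.mp hb
  intro hmem
  have hfix := mem_fixL.mp (Subgroup.mem_inf.mp hg).2 _ hmem
  exact ha (g.injective hfix ▸ hmem)

theorem inter_fix_le {K : Subgroup (Equiv.Perm GolayPt)} {l : List GolayPt} {a : GolayPt}
    {g : Equiv.Perm GolayPt} (ha : a ∉ l) (hl : l.Nodup) (hg : ∀ b ∈ l, g b = b) :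
    (orbF (K ⊓ fixL l) a ∩ fixF g).card + l.length ≤ (fixF g).card := by
  have h1 : orbF (K ⊓ fixL l) a ∩ fixF g ⊆ fixF g \ l.toFinset := by
    intro b hb
    rw [Finset.mem_inter] at hb
    rw [Finset.mem_sdiff, List.mem_toFinset]
    exact ⟨hb.2, orbF_fix_notMem ha hb.1⟩
  have h2 : l.toFinset ⊆ fixF g := by
    intro b hb
    rw [List.mem_toFinset] at hb
    exact mem_fixF.mpr (hg b hb)
  have h3 := Finset.card_le_card h1
  rw [Finset.card_sdiff_of_subset h2, List.toFinset_card_of_nodup hl] at h3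
  have h4 := Finset.card_le_card h2
  rw [List.toFinset_card_of_nodup hl] at h4
  omega

theorem orbF_card_pos (K : Subgroup (Equiv.Perm GolayPt)) (a : GolayPt) : 0 < (orbF K a).card :=
  Finset.card_pos.mpr ⟨a, self_mem_orbF K a⟩

theorem orbF_card_le {K : Subgroup (Equiv.Perm GolayPt)} {l : List GolayPt} {a : GolayPt}
    (ha : a ∉ l) (hl : l.Nodup) : (orbF (K ⊓ fixL l) a).card + l.length ≤ 24 := by
  have h1 : orbF (K ⊓ fixL l) a ⊆ Finset.univ \ l.toFinset := by
    intro b hb
    rw [Finset.mem_sdiff, List.mem_toFinset]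
    exact ⟨Finset.mem_univ _, orbF_fix_notMem ha hb⟩
  have h3 := Finset.card_le_card h1
  rw [Finset.card_sdiff_of_subset (Finset.subset_univ _), List.toFinset_card_of_nodup hl,
    Finset.card_univ, card_golay] at h3
  have h4 : l.toFinset.card ≤ (Finset.univ : Finset GolayPt).card := Finset.card_le_univ _
  rw [List.toFinset_card_of_nodup hl, Finset.card_univ, card_golay] at h4
  omega

theorem mem_inf_fixL {K : Subgroup (Equiv.Perm GolayPt)} {l : List GolayPt}
    {g : Equiv.Perm GolayPt} : g ∈ K ⊓ fixL l ↔ g ∈ K ∧ ∀ b ∈ l, g b = b := by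
  rw [Subgroup.mem_inf, mem_fixL]

/-- a point whose orbit has one element is fixed. -/
theorem fixed_of_orbF_card_one {K : Subgroup (Equiv.Perm GolayPt)} {a : GolayPt}
    (h : (orbF K a).card = 1) {g : Equiv.Perm GolayPt} (hg : g ∈ K) : g a = a := by
  obtain ⟨b, hb⟩ := Finset.card_eq_one.mp h
  have h1 : a ∈ orbF K a := self_mem_orbF K a
  have h2 : g a ∈ orbF K a := mem_orbF.mpr ⟨g, hg, rfl⟩
  rw [hb, Finset.mem_singleton] at h1 h2
  rw [h2, h1]

end Cfsg.Agent.Helper5.M24Sub
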