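import Mathlib
import Cfsg.Prelude.Def_Sporadic_a
import Cfsg.Agent.Helper5.M24Sub.Tools

set_option autoImplicit false

/-!
Subgroups of the group of the length-24 code whose order is divisible by `2 ^ 10`: a conjugate
contains the explicit Sylow 2-subgroup, whose orbits are the standard octad and its complement;
the stabilizer of a point of the octad in it is transitive on the complement.
-/

namespace Cfsg.Agent.Helper5.M24Sub

open Cfsg Cfsg.Agent.Helper9.Golay Cfsg.Agent.Helper9.M22Sub Cfsg.Agent.Helper9.M23Sub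
open scoped Pointwise

/-- the explicit Sylow 2-subgroup as a group of permutations. -/
def P2' : Subgroup (Equiv.Perm GolayPt) := P2.map M24.subtype

theorem mem_P2'_of_tbl {σ : Equiv.Perm GolayPt} {t : List ℕ} (ht : t ∈ p2G.tabs)
    (hσ : IsTbl σ t) : σ ∈ P2' := by
  obtain ⟨σ', hσ'M, hσ't⟩ := p2_real t ht
  have e : σ = σ' := hσ.eq_of_eq hσ't
  subst e
  exact Subgroup.mem_map.mpr ⟨⟨σ, hσ'M⟩, (mem_P2 _).mpr ⟨t, ht, hσ⟩, rfl⟩

theorem P2'_le : P2' ≤ M24 := by
  rintro _ ⟨g, -, rfl⟩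
  exact g.2

theorem card_P2' : Nat.card P2' = 2 ^ 10 := by
  unfold P2'
  rw [Subgroup.card_map_of_injective (Subgroup.subtype_injective _), card_P2]

theorem chk8 : (List.range 24).all (fun i => !(5279 : ℕ).testBit i ||
    (List.range 1024).any (fun j => (p2G.acc j).getD 0 0 == i)) = true := by decide +kernel

theorem chk16 : (List.range 24).all (fun i => (5279 : ℕ).testBit i ||
    (List.range 1024).any (fun j => (p2G.acc j).getD 0 0 == 0 && (p2G.acc j).getD 5 0 == i)) = true := by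
  decide +kernel

theorem exists_tbl_acc {j : ℕ} (hj : j < 1024) : ∃ σ ∈ P2', IsTbl σ (p2G.acc j) := by
  have hmem : p2G.acc j ∈ p2G.tabs := acc_mem_tabs hj
  obtain ⟨σ, -, hσt⟩ := p2_real _ hmem
  exact ⟨σ, mem_P2'_of_tbl hmem hσt, hσt⟩

/-- the explicit Sylow 2-subgroup is transitive on the standard octad. -/
theorem P2'_orbit8 {p : GolayPt} (hp : p ∈ suppM 5279) : ∃ σ ∈ P2', σ (idxPtN 0) = p := by
  have hi := ptIdx_lt p
  rw [mem_suppM] at hp
  have h := List.all_eq_true.mp chk8 (ptIdx p) (List.mem_range.mpr hi)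
  rw [hp] at h
  simp only [Bool.not_true, Bool.false_or, List.any_eq_true, List.mem_range, beq_iff_eq] at h
  obtain ⟨j, hj, hji⟩ := h
  obtain ⟨σ, hσ, hσt⟩ := exists_tbl_acc hj
  refine ⟨σ, hσ, ?_⟩
  rw [hσt.apply_idx (by norm_num), hji, idxPtN_ptIdx]

/-- the stabilizer of the first point in the explicit Sylow 2-subgroup is transitive on the
complement of the standard octad. -/
theorem P2'_orbit16 {p : GolayPt} (hp : p ∉ suppM 5279) :
    ∃ σ ∈ P2', σ (idxPtN 0) = idxPtN 0 ∧ σ (idxPtN 5) = p := by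
  have hi := ptIdx_lt p
  rw [mem_suppM, Bool.not_eq_true] at hp
  have h := List.all_eq_true.mp chk16 (ptIdx p) (List.mem_range.mpr hi)
  rw [hp] at h
  simp only [Bool.false_or, List.any_eq_true, List.mem_range, Bool.and_eq_true, beq_iff_eq] at h
  obtain ⟨j, hj, hj0, hji⟩ := h
  obtain ⟨σ, hσ, hσt⟩ := exists_tbl_acc hj
  refine ⟨σ, hσ, ?_, ?_⟩
  · rw [hσt.apply_idx (by norm_num), hj0]
  · rw [hσt.apply_idx (by norm_num), hji, idxPtN_ptIdx]

/-! ### conjugates -/

/-- the conjugate `c H c⁻¹` of a subgroup. -/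
def conjSub (c : Equiv.Perm GolayPt) (H : Subgroup (Equiv.Perm GolayPt)) :
    Subgroup (Equiv.Perm GolayPt) :=
  H.map (MulAut.conj c).toMonoidHom

theorem mem_conjSub {c g : Equiv.Perm GolayPt} {H : Subgroup (Equiv.Perm GolayPt)} :
    g ∈ conjSub c H ↔ c⁻¹ * g * c ∈ H := by
  unfold conjSub
  rw [Subgroup.mem_map]
  constructor
  · rintro ⟨h, hh, rfl⟩
    have : c⁻¹ * ((MulAut.conj c).toMonoidHom h) * c = h := by
      change c⁻¹ * (c * h * c⁻¹) * c = h
      group
    rw [this]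
    exact hh
  · intro h
    refine ⟨c⁻¹ * g * c, h, ?_⟩
    change c * (c⁻¹ * g * c) * c⁻¹ = g
    group

theorem card_conjSub (c : Equiv.Perm GolayPt) (H : Subgroup (Equiv.Perm GolayPt)) :
    Nat.card (conjSub c H) = Nat.card H := by
  unfold conjSub
  exact Subgroup.card_map_of_injective (MulAut.conj c).injective

theorem conjSub_le_M24 {c : Equiv.Perm GolayPt} (hc : c ∈ M24) {H : Subgroup (Equiv.Perm GolayPt)}
    (hH : H ≤ M24) : conjSub c H ≤ M24 := by
  intro g hg
  have h1 := hH (mem_conjSub.mp hg)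
  have : g = c * (c⁻¹ * g * c) * c⁻¹ := by group
  rw [this]
  exact M24.mul_mem (M24.mul_mem hc h1) (M24.inv_mem hc)

/-- a subgroup whose order is divisible by `2 ^ 10` has a conjugate containing the explicit Sylow
2-subgroup. -/
theorem exists_conj_ge_P2' {H : Subgroup (Equiv.Perm GolayPt)} (hH : H ≤ M24)
    (h2 : 2 ^ 10 ∣ Nat.card H) : ∃ c ∈ M24, P2' ≤ conjSub c H := by
  have : Fact (Nat.Prime 2) := ⟨Nat.prime_two⟩
  have hfin : Finite ↥M24 := Nat.finite_of_card_ne_zero (by rw [card_M24]; norm_num)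
  let H0 : Subgroup ↥M24 := H.subgroupOf M24
  have hH0 : Nat.card H0 = Nat.card H :=
    Nat.card_congr (Subgroup.subgroupOfEquivOfLe hH).toEquiv
  obtain ⟨K, hK⟩ := Sylow.exists_subgroup_card_pow_prime (G := ↥H0) 2 (n := 10)
    (by rw [hH0]; exact h2)
  let Q : Subgroup ↥M24 := K.map H0.subtype
  have hQc : Nat.card Q = 2 ^ 10 := by
    rw [Subgroup.card_map_of_injective (Subgroup.subtype_injective _), hK]
  have hQle : Q ≤ H0 := by
    rintro _ ⟨k, -, rfl⟩
    exact k.2
  have hQp : IsPGroup 2 Q := IsPGroup.of_card hQc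
  obtain ⟨c, hc⟩ := exists_conj_le P2 card_P2 card_M24_not_dvd Q hQp
  have heq : MulAut.conj c • Q = P2 := by
    apply Subgroup.eq_of_le_of_card_ge hc
    rw [card_conj_smul, hQc, card_P2]
  refine ⟨(c : Equiv.Perm GolayPt), c.2, ?_⟩
  rintro _ ⟨y, hy, rfl⟩
  rw [← heq] at hy
  obtain ⟨q, hq, hqy⟩ := (mem_conj_smul_iff c Q y).mp hy
  rw [mem_conjSub]
  have hqH : (q : Equiv.Perm GolayPt) ∈ H := Subgroup.mem_subgroupOf.mp (hQle hq)
  have e : (c : Equiv.Perm GolayPt)⁻¹ * (M24.subtype y) * (c : Equiv.Perm GolayPt) =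
      (q : Equiv.Perm GolayPt) := by
    rw [← hqy]
    change (c : Equiv.Perm GolayPt)⁻¹ * ((c : Equiv.Perm GolayPt) * (q : Equiv.Perm GolayPt) *
      (c : Equiv.Perm GolayPt)⁻¹) * (c : Equiv.Perm GolayPt) = _
    group
  rw [e]
  exact hqH

end Cfsg.Agent.Helper5.M24Sub
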