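import Mathlib
import Cfsg.Prelude.Def_Sporadic_a
import Cfsg.Agent.Helper5.M24Sub.Syl
import Cfsg.Agent.Helper9.Golay.OctA8
import Cfsg.Agent.Helper9.Golay.OctGraph
import Cfsg.Agent.Helper9.Golay.TrioOct3

set_option autoImplicit false

/-!
Subgroups of index 759 in the group of the length-24 code are the stabilizers of the octads.
-/

namespace Cfsg.Agent.Helper5.M24Sub

open Cfsg Cfsg.Agent.Helper9.Golay Cfsg.Agent.Helper9.M22Sub Cfsg.Agent.Helper9.M23Sub
open scoped Pointwise

variable {H : Subgroup (Equiv.Perm GolayPt)}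

/-- from a conjugate that is a stabilizer to the subgroup. -/
theorem eq_stab_of_conjSub {α : Type*} [MulAction (Equiv.Perm GolayPt) α] {c : Equiv.Perm GolayPt}
    (hc : c ∈ M24) {o : α}
    (h : conjSub c H = M24 ⊓ MulAction.stabilizer (Equiv.Perm GolayPt) o) :
    H = M24 ⊓ MulAction.stabilizer (Equiv.Perm GolayPt) (c⁻¹ • o) := by
  ext g
  have h1 : g ∈ H ↔ c * g * c⁻¹ ∈ conjSub c H := by
    rw [mem_conjSub]
    have : c⁻¹ * (c * g * c⁻¹) * c = g := by group
    rw [this]
  rw [h1, h, Subgroup.mem_inf, Subgroup.mem_inf]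
  apply and_congr
  · constructor
    · intro hg
      have : g = c⁻¹ * (c * g * c⁻¹) * c := by group
      rw [this]
      exact M24.mul_mem (M24.mul_mem (M24.inv_mem hc) hg) hc
    · intro hg
      exact M24.mul_mem (M24.mul_mem hc hg) (M24.inv_mem hc)
  · rw [MulAction.mem_stabilizer_iff, MulAction.mem_stabilizer_iff, mul_smul, mul_smul]
    exact smul_eq_iff_eq_inv_smul c

theorem x0_mem_oct0 : idxPtN 0 ∈ suppM 5279 := by
  rw [mem_suppM_idx (by norm_num)]; decide

theorem p5_notMem_oct0 : idxPtN 5 ∉ suppM 5279 := by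
  rw [mem_suppM_idx (by norm_num)]; decide

theorem card_oct0 : (suppM 5279).card = 8 := oct5279_mem.2

/-- a subgroup containing the explicit Sylow 2-subgroup: the orbit of the first point is the
standard octad or everything. -/
theorem orbit_x0 (hP : P2' ≤ H) :
    orbF H (idxPtN 0) = suppM 5279 ∨ orbF H (idxPtN 0) = Finset.univ := by
  have hsub : suppM 5279 ⊆ orbF H (idxPtN 0) := by
    intro p hp
    obtain ⟨σ, hσ, hσp⟩ := P2'_orbit8 hp
    exact mem_orbF.mpr ⟨σ, hP hσ, hσp⟩
  by_cases hex : ∃ q ∈ orbF H (idxPtN 0), q ∉ suppM 5279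
  · right
    obtain ⟨q, hq, hqo⟩ := hex
    apply Finset.eq_univ_of_forall
    intro p
    by_cases hp : p ∈ suppM 5279
    · exact hsub hp
    · obtain ⟨σ, hσ, -, hσq⟩ := P2'_orbit16 hqo
      obtain ⟨τ, hτ, -, hτp⟩ := P2'_orbit16 hp
      have h1 : τ * σ⁻¹ ∈ H := H.mul_mem (hP hτ) (H.inv_mem (hP hσ))
      have h2 : (τ * σ⁻¹) q = p := by
        rw [Equiv.Perm.mul_apply, ← hσq]
        simp [hτp]
      rw [← h2]
      exact smul_mem_orbF h1 hq
  · left
    push Not at hex
    exact Finset.Subset.antisymm hex hsub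

theorem thm759_std (hH : H ≤ M24) (hc : Nat.card H = 322560) (hP : P2' ≤ H) :
    H = GO (suppM 5279) := by
  have : Fact (Nat.Prime 7) := ⟨by norm_num⟩
  have : Fact (Nat.Prime 5) := ⟨by norm_num⟩
  have : Fact (Nat.Prime 3) := ⟨by norm_num⟩
  obtain ⟨x0, hx0⟩ : ∃ x0, x0 = idxPtN 0 := ⟨_, rfl⟩
  obtain ⟨p5, hp5⟩ : ∃ p5, p5 = idxPtN 5 := ⟨_, rfl⟩
  obtain ⟨o, hoe⟩ : ∃ o, o = suppM 5279 := ⟨_, rfl⟩
  have ho : o ∈ octads := hoe ▸ oct5279_mem
  have hx0o : x0 ∈ o := by rw [hx0, hoe]; exact x0_mem_oct0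
  have hp5o : p5 ∉ o := by rw [hp5, hoe]; exact p5_notMem_oct0
  have hp5x0 : p5 ≠ x0 := fun h => hp5o (h ▸ hx0o)
  have horb := orbit_x0 hP
  rw [← hx0, ← hoe] at horb
  rw [← hoe]
  rcases horb with horb | horb
  · -- the orbit is the octad
    apply Subgroup.eq_of_le_of_card_ge
    · intro g hg
      rw [mem_GO_iff]
      refine ⟨hH hg, ?_⟩
      rw [smul_finset_eq_iff, ← horb]
      exact fun a ha => smul_mem_orbF hg ha
    · rw [card_GO ho, hc]
  · -- the transitive case is impossible
    exfalso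
    have hall : ∀ a b : GolayPt, ∃ g ∈ H, g a = b := by
      intro a b
      have ha : a ∈ orbF H x0 := by rw [horb]; exact Finset.mem_univ a
      have hb : b ∈ orbF H x0 := by rw [horb]; exact Finset.mem_univ b
      obtain ⟨g1, hg1, hg1a⟩ := mem_orbF.mp ha
      obtain ⟨g2, hg2, hg2b⟩ := mem_orbF.mp hb
      refine ⟨g2 * g1⁻¹, H.mul_mem hg2 (H.inv_mem hg1), ?_⟩
      rw [Equiv.Perm.mul_apply, ← hg1a]
      simp [hg2b]
    have hKc : Nat.card (H ⊓ fixL [x0] : Subgroup (Equiv.Perm GolayPt)) = 13440 := by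
      have := card_orb_mul H x0
      rw [hc, horb, Finset.card_univ, card_golay] at this
      omega
    -- the complement of the octad lies in one orbit of the stabilizer of `x0`
    have hA16 : Finset.univ \ o ⊆ orbF (H ⊓ fixL [x0]) p5 := by
      intro p hp
      rw [Finset.mem_sdiff] at hp
      obtain ⟨σ, hσ, hσ0, hσp⟩ := P2'_orbit16 (hoe ▸ hp.2)
      refine mem_orbF.mpr ⟨σ, mem_inf_fixL.mpr ⟨hP hσ, ?_⟩, hp5 ▸ hσp⟩
      intro b hb
      simp only [List.mem_cons, List.not_mem_nil, or_false] at hb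
      rw [hb, hx0]
      exact hσ0
    have hA16c : (Finset.univ \ o).card = 16 := by
      rw [Finset.card_sdiff_of_subset (Finset.subset_univ _), Finset.card_univ, card_golay, ho.2]
    obtain ⟨g7, hg7, ho7⟩ := exists_order_of_dvd (K := H ⊓ fixL [x0]) 7 (by rw [hKc]; norm_num)
    have hF7 := fixF_card_seven (hH (mem_inf_fixL.mp hg7).1) ho7
    have hch := card_chain H [x0] p5
    rw [hKc] at hch
    have h7 := inv_modEq (inv_orbF (H ⊓ fixL [x0]) p5) hg7 ho7
    have he7 := inter_fix_le (K := H) (l := [x0]) (a := p5) (g := g7) (by simp [hp5x0]) (by simp)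
      (mem_inf_fixL.mp hg7).2
    have hle := orbF_card_le (K := H) (l := [x0]) (a := p5) (by simp [hp5x0]) (by simp)
    have hge := Finset.card_le_card hA16
    rw [hA16c] at hge
    rw [hF7] at he7
    simp only [List.length_singleton] at he7 hle
    have hcases : (orbF (H ⊓ fixL [x0]) p5).card = 16 ∨ (orbF (H ⊓ fixL [x0]) p5).card = 21 := by
      unfold Nat.ModEq at h7
      generalize (orbF (H ⊓ fixL [x0]) p5).card = n at *
      generalize (orbF (H ⊓ fixL [x0]) p5 ∩ fixF g7).card = e7 at *
      generalize Nat.card (H ⊓ fixL [p5, x0] : Subgroup (Equiv.Perm GolayPt)) = m at *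
      have hn : n ≤ 23 := by omega
      interval_cases n <;> omega
    rcases hcases with h16 | h21
    · -- the stabilizer of `x0` stabilizes the octad
      have hO : orbF (H ⊓ fixL [x0]) p5 = Finset.univ \ o :=
        (Finset.eq_of_subset_of_card_le hA16 (by rw [h16, hA16c])).symm
      have hKo : ∀ k ∈ (H ⊓ fixL [x0] : Subgroup (Equiv.Perm GolayPt)), k • o = o := by
        intro k hk
        rw [smul_finset_eq_iff]
        intro a ha
        by_contra hcon
        have h1 : k a ∈ orbF (H ⊓ fixL [x0]) p5 := by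
          rw [hO, Finset.mem_sdiff]; exact ⟨Finset.mem_univ _, hcon⟩
        have h2 := ((inv_orbF (H ⊓ fixL [x0]) p5).iff hk a).mpr h1
        rw [hO, Finset.mem_sdiff] at h2
        exact h2.2 ha
      obtain ⟨h, hh, hhx⟩ := hall x0 p5
      obtain ⟨o', ho'e⟩ : ∃ o', o' = h • o := ⟨_, rfl⟩
      have ho' : o' ∈ octads := ho'e ▸ smul_mem_wordsOfWeight (hH hh) ho
      have hp5o' : p5 ∈ o' := by
        rw [ho'e, ← hhx]; exact Finset.smul_mem_smul_finset (a := h) hx0o
      have hne : o ≠ o' := fun e => hp5o (e ▸ hp5o')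
      have hFc : Nat.card (H ⊓ fixL [p5, x0] : Subgroup (Equiv.Perm GolayPt)) = 840 := by
        rw [h16] at hch; omega
      -- the stabilizer of the two points stabilizes both octads
      have hFo : ∀ g ∈ (H ⊓ fixL [p5, x0] : Subgroup (Equiv.Perm GolayPt)), g • o = o :=
        fun g hg => hKo g (fixL_cons_le H p5 [x0] hg)
      have hFo' : ∀ g ∈ (H ⊓ fixL [p5, x0] : Subgroup (Equiv.Perm GolayPt)), g • o' = o' := by
        intro g hg
        have hg' := mem_inf_fixL.mp hg
        have hconj : h⁻¹ * g * h ∈ (H ⊓ fixL [x0] : Subgroup (Equiv.Perm GolayPt)) := by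
          refine mem_inf_fixL.mpr ⟨H.mul_mem (H.mul_mem (H.inv_mem hh) hg'.1) hh, ?_⟩
          intro c hc'
          simp only [List.mem_cons, List.not_mem_nil, or_false] at hc'
          rw [hc', Equiv.Perm.mul_apply, Equiv.Perm.mul_apply, hhx, hg'.2 p5 (by simp), ← hhx]
          simp
        have h1 := hKo _ hconj
        rw [ho'e]
        have : g = h * (h⁻¹ * g * h) * h⁻¹ := by group
        rw [this, mul_smul, mul_smul, inv_smul_smul, h1]
      have hinvI : Inv (H ⊓ fixL [p5, x0]) (o ∩ o') := by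
        intro g hg a ha
        rw [Finset.mem_inter] at ha ⊢
        exact ⟨smul_finset_eq_iff.mp (hFo g hg) a ha.1, smul_finset_eq_iff.mp (hFo' g hg) a ha.2⟩
      have hinvo : Inv (H ⊓ fixL [p5, x0]) o := fun g hg => smul_finset_eq_iff.mp (hFo g hg)
      have hinvo' : Inv (H ⊓ fixL [p5, x0]) o' := fun g hg => smul_finset_eq_iff.mp (hFo' g hg)
      obtain ⟨f7, hf7, hof7⟩ := exists_order_of_dvd (K := H ⊓ fixL [p5, x0]) 7
        (by rw [hFc]; norm_num)
      obtain ⟨f5, hf5, hof5⟩ := exists_order_of_dvd (K := H ⊓ fixL [p5, x0]) 5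
        (by rw [hFc]; norm_num)
      have hFf7 := fixF_card_seven (hH (mem_inf_fixL.mp hf7).1) hof7
      have hFf5 := fixF_card_five (hH (mem_inf_fixL.mp hf5).1) hof5
      -- the element of order seven: the two octads are disjoint
      have hI0 : (o ∩ o').card = 0 := by
        have h1 := inv_modEq hinvo hf7 hof7
        have h2 := inv_modEq hinvI hf7 hof7
        have h3 : (o ∩ fixF f7).card ≤ 3 := hFf7 ▸ Finset.card_le_card Finset.inter_subset_right
        have h4 : (o ∩ o' ∩ fixF f7).card ≤ (o ∩ fixF f7).card := by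
          apply Finset.card_le_card
          intro a ha
          rw [Finset.mem_inter, Finset.mem_inter] at ha
          exact Finset.mem_inter.mpr ⟨ha.1.1, ha.2⟩
        have h5 := card_inter_octads ho ho' hne
        rw [ho.2] at h1
        unfold Nat.ModEq at h1 h2
        omega
      -- the element of order five has too many fixed points
      have h1 := inv_modEq hinvo hf5 hof5
      have h2 := inv_modEq hinvo' hf5 hof5
      rw [ho.2] at h1
      rw [ho'.2] at h2
      have hdisj : Disjoint (o ∩ fixF f5) (o' ∩ fixF f5) := by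
        rw [Finset.disjoint_left]
        intro a ha ha'
        have : a ∈ o ∩ o' := Finset.mem_inter.mpr ⟨(Finset.mem_inter.mp ha).1, (Finset.mem_inter.mp ha').1⟩
        rw [Finset.card_eq_zero.mp hI0] at this
        exact absurd this (Finset.notMem_empty _)
      have h3 : ((o ∩ fixF f5) ∪ (o' ∩ fixF f5)).card ≤ (fixF f5).card := by
        apply Finset.card_le_card
        intro a ha
        rw [Finset.mem_union] at ha
        rcases ha with ha | ha
        · exact (Finset.mem_inter.mp ha).2
        · exact (Finset.mem_inter.mp ha).2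
      rw [Finset.card_union_of_disjoint hdisj, hFf5] at h3
      unfold Nat.ModEq at h1 h2
      omega
    · -- two further points
      obtain ⟨R, hR⟩ : ∃ R, R = Finset.univ \ insert x0 (orbF (H ⊓ fixL [x0]) p5) := ⟨_, rfl⟩
      have hx0O : x0 ∉ orbF (H ⊓ fixL [x0]) p5 := by
        intro hcon
        exact orbF_fix_notMem (K := H) (l := [x0]) (a := p5) (by simp [hp5x0]) hcon (by simp)
      have hRc : R.card = 2 := by
        rw [hR, Finset.card_sdiff_of_subset (Finset.subset_univ _), Finset.card_univ, card_golay,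
          Finset.card_insert_of_notMem hx0O, h21]
      have hRinv : Inv (H ⊓ fixL [x0]) R := by
        intro k hk a ha
        rw [hR, Finset.mem_sdiff, Finset.mem_insert, not_or] at ha ⊢
        refine ⟨Finset.mem_univ _, ?_, ?_⟩
        · intro hcon
          have hkx : k x0 = x0 := (mem_inf_fixL.mp hk).2 x0 (by simp)
          rw [← hkx] at hcon
          exact ha.2.1 (k.injective hcon)
        · intro hcon
          exact ha.2.2 (((inv_orbF (H ⊓ fixL [x0]) p5).iff hk a).mpr hcon)
      obtain ⟨l', hl'n, hl'len, hl'mem, hl'card⟩ := chain_inv 2 H [x0] R hRinv hRc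
        (by
          intro b hb hmem
          simp only [List.mem_cons, List.not_mem_nil, or_false] at hmem
          rw [hR, Finset.mem_sdiff, Finset.mem_insert, not_or] at hb
          exact hb.2.1 hmem)
        (by simp)
      rw [hKc] at hl'card
      have hJle : (H ⊓ fixL l' : Subgroup (Equiv.Perm GolayPt)) ≤ H ⊓ fixL [x0] := by
        intro g hg
        have hg' := mem_inf_fixL.mp hg
        refine mem_inf_fixL.mpr ⟨hg'.1, ?_⟩
        intro b hb
        simp only [List.mem_cons, List.not_mem_nil, or_false] at hb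
        exact hg'.2 b ((hl'mem b).mpr (Or.inr (by simp [hb])))
      have hJdvd := Subgroup.card_dvd_of_le hJle
      rw [hKc] at hJdvd
      have h3J : 3 ∣ Nat.card (H ⊓ fixL l' : Subgroup (Equiv.Perm GolayPt)) := by
        obtain ⟨t, ht⟩ := hJdvd
        generalize Nat.card (H ⊓ fixL l' : Subgroup (Equiv.Perm GolayPt)) = j at *
        have : t ≤ 2 := by
          by_contra hcon
          push Not at hcon
          have : j * 3 ≤ j * t := Nat.mul_le_mul_left j hcon
          simp only [Nat.factorial] at hl'card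
          omega
        interval_cases t <;> omega
      obtain ⟨g3, hg3, ho3⟩ := exists_order_of_dvd (K := H ⊓ fixL l') 3 h3J
      have hg3' := mem_inf_fixL.mp hg3
      have hx3 : x0 ∈ fixF g3 :=
        mem_fixF.mpr (hg3'.2 x0 ((hl'mem x0).mpr (Or.inr (by simp))))
      have hF3 : (fixF g3).card = 6 := by
        rcases fixF_card_three (hH hg3'.1) ho3 with h | h
        · exact h
        · rw [Finset.card_eq_zero.mp h] at hx3
          exact absurd hx3 (Finset.notMem_empty _)
      obtain ⟨δ, hδ3, hδl⟩ : ∃ δ ∈ fixF g3, δ ∉ l'.toFinset := by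
        apply Finset.exists_mem_notMem_of_card_lt_card
        rw [hF3, List.toFinset_card_of_nodup hl'n, hl'len]
        simp
      rw [List.mem_toFinset] at hδl
      have hδO : δ ∈ orbF (H ⊓ fixL [x0]) p5 := by
        by_contra hcon
        apply hδl
        rw [hl'mem]
        by_cases hδx : δ = x0
        · exact Or.inr (by simp [hδx])
        · left
          rw [hR, Finset.mem_sdiff, Finset.mem_insert, not_or]
          exact ⟨Finset.mem_univ _, hδx, hcon⟩
      have hδx : δ ≠ x0 := fun h => hδl ((hl'mem δ).mpr (Or.inr (by simp [h])))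
      have h640 : Nat.card (H ⊓ fixL [δ, x0] : Subgroup (Equiv.Perm GolayPt)) = 640 := by
        have h1 := card_chain H [x0] δ
        rw [hKc, orbF_eq_of_mem hδO, h21] at h1
        omega
      have hg3δ : g3 ∈ (H ⊓ fixL [δ, x0] : Subgroup (Equiv.Perm GolayPt)) := by
        refine mem_inf_fixL.mpr ⟨hg3'.1, ?_⟩
        intro b hb
        simp only [List.mem_cons, List.not_mem_nil, or_false] at hb
        rcases hb with rfl | rfl
        · exact mem_fixF.mp hδ3
        · exact mem_fixF.mp hx3
      have hdvd : orderOf (⟨g3, hg3δ⟩ : ↥(H ⊓ fixL [δ, x0] : Subgroup (Equiv.Perm GolayPt))) ∣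
          Nat.card (H ⊓ fixL [δ, x0] : Subgroup (Equiv.Perm GolayPt)) := orderOf_dvd_natCard _
      rw [h640, Subgroup.orderOf_mk, ho3] at hdvd
      omega

/-- subgroups of order 322560 are the stabilizers of the octads. -/
theorem thm759 (hH : H ≤ M24) (hc : Nat.card H = 322560) :
    ∃ o ∈ octads, H = M24 ⊓ MulAction.stabilizer (Equiv.Perm GolayPt) o := by
  obtain ⟨c, hcM, hP⟩ := exists_conj_ge_P2' hH (by rw [hc]; norm_num)
  have h1 := thm759_std (conjSub_le_M24 hcM hH) (by rw [card_conjSub, hc]) hP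
  refine ⟨c⁻¹ • suppM 5279, smul_mem_wordsOfWeight (M24.inv_mem hcM) oct5279_mem, ?_⟩
  exact eq_stab_of_conjSub hcM h1

end Cfsg.Agent.Helper5.M24Sub
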