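import Mathlib
import Cfsg.Prelude.Def_Sporadic_a
import Cfsg.Prelude.Def_SporadicCombinatorics
import Cfsg.Agent.Helper5.M24Sub.Tools
import Cfsg.Agent.Helper9.Golay.SextetBasic
import Cfsg.Agent.Helper9.Golay.FamStab

set_option autoImplicit false

/-!
Lemmas for the subgroups of index 1771: the orbits of the stabilizer of five points, bounds from
invariant sets of five points, and the two final configurations.
-/

namespace Cfsg.Agent.Helper5.M24Sub

open Cfsg Cfsg.Agent.Helper9.Golay Cfsg.Agent.Helper9.M22Sub Cfsg.Agent.Helper9.M23Sub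
open scoped Pointwise

variable {H : Subgroup (Equiv.Perm GolayPt)}

theorem card_fix6_list (l : List GolayPt) (hl : l.Nodup) (h6 : l.length = 6) :
    Nat.card (M24 ⊓ fixL l : Subgroup (Equiv.Perm GolayPt)) = 16 ∨
      Nat.card (M24 ⊓ fixL l : Subgroup (Equiv.Perm GolayPt)) = 3 := by
  match l, h6 with
  | [a0, a1, a2, a3, a4, a5], _ => exact card_fix6 a0 a1 a2 a3 a4 a5 hl

/-- the orbits of the stabilizer of five points on the other points have 3 or 16 elements. -/
theorem orbit5_sizes (l5 : List GolayPt) (hl : l5.Nodup) (h5 : l5.length = 5) {v : GolayPt}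
    (hv : v ∉ l5) :
    (orbF (M24 ⊓ fixL l5) v).card = 3 ∨ (orbF (M24 ⊓ fixL l5) v).card = 16 := by
  have h1 := card_chain M24 l5 v
  rw [card_fix5 l5 hl h5] at h1
  rcases card_fix6_list (v :: l5) (List.nodup_cons.mpr ⟨hv, hl⟩) (by simp [h5]) with h | h
  · rw [h] at h1; left; omega
  · rw [h] at h1; right; omega

/-- the stabilizer of five points has only one invariant set of three other points. -/
theorem inv3_unique (l5 : List GolayPt) (hl : l5.Nodup) (h5 : l5.length = 5)
    {Z1 Z2 : Finset GolayPt} (h1 : Inv (M24 ⊓ fixL l5) Z1) (h2 : Inv (M24 ⊓ fixL l5) Z2)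
    (hc1 : Z1.card = 3) (hc2 : Z2.card = 3) (hd1 : ∀ a ∈ Z1, a ∉ l5) (hd2 : ∀ a ∈ Z2, a ∉ l5) :
    Z1 = Z2 := by
  have horb : ∀ Z : Finset GolayPt, Inv (M24 ⊓ fixL l5) Z → Z.card = 3 → (∀ a ∈ Z, a ∉ l5) →
      ∀ v ∈ Z, orbF (M24 ⊓ fixL l5) v = Z := by
    intro Z hZ hZc hZd v hv
    have hsub := hZ.orbF_sub hv
    apply Finset.eq_of_subset_of_card_le hsub
    have := Finset.card_le_card hsub
    rcases orbit5_sizes l5 hl h5 (hZd v hv) with h | h <;> omega
  by_contra hne
  have hdisj : Disjoint Z1 Z2 := by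
    rw [Finset.disjoint_left]
    intro v hv1 hv2
    exact hne ((horb Z1 h1 hc1 hd1 v hv1).symm.trans (horb Z2 h2 hc2 hd2 v hv2))
  obtain ⟨W, hW⟩ : ∃ W, W = Finset.univ \ (l5.toFinset ∪ Z1 ∪ Z2) := ⟨_, rfl⟩
  have hWc : W.card = 13 := by
    have e1 : Disjoint l5.toFinset Z1 := by
      rw [Finset.disjoint_left]
      intro a ha ha1
      exact hd1 a ha1 (List.mem_toFinset.mp ha)
    have e2 : Disjoint (l5.toFinset ∪ Z1) Z2 := by
      rw [Finset.disjoint_union_left]
      refine ⟨?_, hdisj⟩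
      rw [Finset.disjoint_left]
      intro a ha ha2
      exact hd2 a ha2 (List.mem_toFinset.mp ha)
    rw [hW, Finset.card_sdiff_of_subset (Finset.subset_univ _), Finset.card_univ, card_golay,
      Finset.card_union_of_disjoint e2, Finset.card_union_of_disjoint e1,
      List.toFinset_card_of_nodup hl, h5, hc1, hc2]
  have hWinv : ∀ g ∈ (M24 ⊓ fixL l5 : Subgroup (Equiv.Perm GolayPt)), ∀ y ∈ W, g y ∈ W := by
    intro g hg y hy
    rw [hW, Finset.mem_sdiff, Finset.mem_union, Finset.mem_union, List.mem_toFinset] at hy ⊢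
    refine ⟨Finset.mem_univ _, ?_⟩
    rintro ((hcon | hcon) | hcon)
    · have hfix := (mem_inf_fixL.mp hg).2 _ hcon
      have : g y = y := g.injective hfix
      rw [this] at hcon
      exact hy.2 (Or.inl (Or.inl hcon))
    · exact hy.2 (Or.inl (Or.inr ((h1.iff hg y).mpr hcon)))
    · exact hy.2 (Or.inr ((h2.iff hg y).mpr hcon))
  have hd : ∀ y ∈ W, 3 ∣ (orbF (M24 ⊓ fixL l5) y).card := by
    intro y hy
    have hsub : orbF (M24 ⊓ fixL l5) y ⊆ W := by
      intro b hb
      obtain ⟨g, hg, rfl⟩ := mem_orbF.mp hb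
      exact hWinv g hg y hy
    have hle := Finset.card_le_card hsub
    have hyl : y ∉ l5 := by
      intro hcon
      rw [hW, Finset.mem_sdiff, Finset.mem_union, Finset.mem_union, List.mem_toFinset] at hy
      exact hy.2 (Or.inl (Or.inl hcon))
    rcases orbit5_sizes l5 hl h5 hyl with h | h
    · rw [h]
    · omega
  have := dvd_card_of_orbits (M24 ⊓ fixL l5) 3 13 W hWc hWinv hd
  omega

/-- an invariant set of five points bounds the order of the stabilizer of a point. -/
theorem kill5 (hH : H ≤ M24) {x0 : GolayPt} {B : Finset GolayPt}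
    (hB : Inv (H ⊓ fixL [x0]) B) (hBc : B.card = 5) (hx : x0 ∉ B) :
    Nat.card (H ⊓ fixL [x0] : Subgroup (Equiv.Perm GolayPt)) ≤ 1920 := by
  obtain ⟨l', hl'n, hl'len, -, hl'card⟩ := chain_inv 5 H [x0] B hB hBc
    (by
      intro b hb hmem
      simp only [List.mem_cons, List.not_mem_nil, or_false] at hmem
      exact hx (hmem ▸ hb))
    (by simp)
  have h1 := card_le_fix hH l'
  have h2 := card_fix6_le l' hl'n (by rw [hl'len]; rfl)
  have h3 : Nat.factorial 5 = 120 := rfl
  rw [h3] at hl'card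
  omega

theorem card_stab_sextet' {S : Finset (Finset GolayPt)} (hS : S ∈ sextets) :
    Nat.card (M24 ⊓ MulAction.stabilizer (Equiv.Perm GolayPt) S :
      Subgroup (Equiv.Perm GolayPt)) = 138240 := by
  rw [← card_stab_sextet hS]
  apply Nat.card_congr
  exact ⟨fun x => ⟨⟨x.1, (Subgroup.mem_inf.mp x.2).1⟩, (Subgroup.mem_inf.mp x.2).2⟩,
    fun x => ⟨x.1.1, Subgroup.mem_inf.mpr ⟨x.1.2, x.2⟩⟩, fun _ => rfl, fun _ => rfl⟩

end Cfsg.Agent.Helper5.M24Sub
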