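import Mathlib
import Cfsg.Prelude.Def_Sporadic_a
import Cfsg.Prelude.Def_SporadicCombinatorics
import Cfsg.Agent.Helper5.M24Sub.P759
import Cfsg.Agent.Helper5.M24Sub.Sext

set_option autoImplicit false

/-!
Subgroups of index 1771 in the group of the length-24 code are the stabilizers of the sextets.
-/

namespace Cfsg.Agent.Helper5.M24Sub

open Cfsg Cfsg.Agent.Helper9.Golay Cfsg.Agent.Helper9.M22Sub Cfsg.Agent.Helper9.M23Sub
open scoped Pointwise

variable {H : Subgroup (Equiv.Perm GolayPt)}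

theorem map_eq_self_fix {g : Equiv.Perm GolayPt} {l : List GolayPt} (h : l.map g = l) :
    ∀ b ∈ l, g b = b := by
  intro b hb
  have h1 : l.map g = l.map id := by rw [List.map_id]; exact h
  exact List.map_inj_left.mp h1 b hb

/-- the stabilizer of at most four points is transitive on the other points. -/
theorem exists_fix_map (l : List GolayPt) (hl : l.Nodup) (h4 : l.length ≤ 4) {y z : GolayPt}
    (hy : y ∉ l) (hz : z ∉ l) :
    ∃ g ∈ (M24 ⊓ fixL l : Subgroup (Equiv.Perm GolayPt)), g y = z := by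
  obtain ⟨g, hg, hmap⟩ := m24_map_list (y :: l) (z :: l) (List.nodup_cons.mpr ⟨hy, hl⟩)
    (List.nodup_cons.mpr ⟨hz, hl⟩) (by simp) (by simp only [List.length_cons]; omega)
  rw [List.map_cons, List.cons.injEq] at hmap
  exact ⟨g, mem_inf_fixL.mpr ⟨hg, map_eq_self_fix hmap.2⟩, hmap.1⟩

/-- a small invariant set of the stabilizer of four points lies in the four points. -/
theorem inv_sub4 (l : List GolayPt) (hl : l.Nodup) (h4 : l.length = 4) {Z : Finset GolayPt}
    (hZ : Inv (M24 ⊓ fixL l) Z) (hZc : Z.card < 20) : ∀ y ∈ Z, y ∈ l := by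
  intro y hy
  by_contra hyl
  have hsub : Finset.univ \ l.toFinset ⊆ Z := by
    intro z hz
    rw [Finset.mem_sdiff, List.mem_toFinset] at hz
    obtain ⟨g, hg, hgy⟩ := exists_fix_map l hl (by omega) hyl hz.2
    rw [← hgy]
    exact hZ g hg y hy
  have := Finset.card_le_card hsub
  rw [Finset.card_sdiff_of_subset (Finset.subset_univ _), Finset.card_univ, card_golay,
    List.toFinset_card_of_nodup hl, h4] at this
  omega

theorem card_stab_of_trans (hc : Nat.card H = 138240)
    (hall : ∀ a b : GolayPt, ∃ g ∈ H, g a = b) (c : GolayPt) :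
    Nat.card (H ⊓ fixL [c] : Subgroup (Equiv.Perm GolayPt)) = 5760 := by
  have horb : orbF H c = Finset.univ := by
    apply Finset.eq_univ_of_forall
    intro b
    obtain ⟨g, hg, hgb⟩ := hall c b
    exact mem_orbF.mpr ⟨g, hg, hgb⟩
  have := card_orb_mul H c
  rw [hc, horb, Finset.card_univ, card_golay] at this
  omega

theorem conj_mem_fix {h k : Equiv.Perm GolayPt} {x0 w : GolayPt} (hh : h ∈ H) (hw : h x0 = w)
    (hk : k ∈ (H ⊓ fixL [w] : Subgroup (Equiv.Perm GolayPt))) :
    h⁻¹ * k * h ∈ (H ⊓ fixL [x0] : Subgroup (Equiv.Perm GolayPt)) := by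
  have hk' := mem_inf_fixL.mp hk
  refine mem_inf_fixL.mpr ⟨H.mul_mem (H.mul_mem (H.inv_mem hh) hk'.1) hh, ?_⟩
  intro c hc'
  simp only [List.mem_cons, List.not_mem_nil, or_false] at hc'
  rw [hc', Equiv.Perm.mul_apply, Equiv.Perm.mul_apply, hw, hk'.2 w (by simp), ← hw]
  simp

theorem inv_conj {h : Equiv.Perm GolayPt} {x0 w : GolayPt} {R : Finset GolayPt} (hh : h ∈ H)
    (hw : h x0 = w) (hR : Inv (H ⊓ fixL [x0]) R) : Inv (H ⊓ fixL [w]) (h • R) := by
  intro k hk b hb
  obtain ⟨r, hr, rfl⟩ := Finset.mem_smul_finset.mp hb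
  have h1 := hR _ (conj_mem_fix hh hw hk) r hr
  rw [Finset.mem_smul_finset]
  refine ⟨_, h1, ?_⟩
  simp [Equiv.Perm.smul_def, Equiv.Perm.mul_apply]

/-- the stabilizer of a point cannot have an orbit of sixteen points with an invariant set of
seven further points. -/
theorem case16 (hH : H ≤ M24) (hc : Nat.card H = 138240)
    (hall : ∀ a b : GolayPt, ∃ g ∈ H, g a = b) {x0 : GolayPt} {R : Finset GolayPt}
    (hRinv : Inv (H ⊓ fixL [x0]) R) (hRc : R.card = 7) (hx0R : x0 ∉ R) : False := by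
  have : Fact (Nat.Prime 5) := ⟨by norm_num⟩
  have hKc := card_stab_of_trans hc hall x0
  obtain ⟨g5, hg5, ho5⟩ := exists_order_of_dvd (K := H ⊓ fixL [x0]) 5 (by rw [hKc]; norm_num)
  have hg5' := mem_inf_fixL.mp hg5
  have hF5 := fixF_card_five (hH hg5'.1) ho5
  obtain ⟨a, haR, haF⟩ : ∃ a ∈ R, a ∉ fixF g5 := by
    apply Finset.exists_mem_notMem_of_card_lt_card
    rw [hF5, hRc]; norm_num
  have hax0 : a ≠ x0 := fun h => hx0R (h ▸ haR)
  obtain ⟨Q, hQ⟩ : ∃ Q, Q = orbF (H ⊓ fixL [x0]) a := ⟨_, rfl⟩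
  have hQR : Q ⊆ R := hQ ▸ hRinv.orbF_sub haR
  have hQinv : Inv (H ⊓ fixL [x0]) Q := hQ ▸ inv_orbF _ a
  have haQ : a ∈ Q := hQ ▸ self_mem_orbF _ a
  have hx0Q : x0 ∉ Q := fun h => hx0R (hQR h)
  have hch := card_chain H [x0] a
  rw [hKc, ← hQ] at hch
  have h5 := inv_modEq hQinv hg5 ho5
  have he5 := inter_fix_le (K := H) (l := [x0]) (a := a) (g := g5) (by simp [hax0]) (by simp)
    hg5'.2
  rw [← hQ, hF5] at he5
  simp only [List.length_singleton] at he5
  have hlt : (Q ∩ fixF g5).card < Q.card := by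
    apply Finset.card_lt_card
    rw [Finset.ssubset_iff_of_subset Finset.inter_subset_left]
    exact ⟨a, haQ, fun h => haF (Finset.mem_inter.mp h).2⟩
  have hQle := Finset.card_le_card hQR
  rw [hRc] at hQle
  have hcases : Q.card = 5 ∨ Q.card = 6 := by
    unfold Nat.ModEq at h5
    generalize Q.card = n at *
    generalize (Q ∩ fixF g5).card = e at *
    generalize Nat.card (H ⊓ fixL [a, x0] : Subgroup (Equiv.Perm GolayPt)) = m at *
    interval_cases n <;> omega
  rcases hcases with h5c | h6c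
  · have := kill5 hH hQinv h5c hx0Q
    rw [hKc] at this
    omega
  · have hRQ : (R \ Q).card = 1 := by rw [Finset.card_sdiff_of_subset hQR]; omega
    obtain ⟨p, hp⟩ := Finset.card_eq_one.mp hRQ
    have hpRQ : p ∈ R \ Q := by rw [hp]; exact Finset.mem_singleton_self p
    rw [Finset.mem_sdiff] at hpRQ
    have hKp : ∀ k ∈ (H ⊓ fixL [x0] : Subgroup (Equiv.Perm GolayPt)), k p = p := by
      intro k hk
      have h2 : k p ∈ R \ Q := Finset.mem_sdiff.mpr
        ⟨hRinv k hk p hpRQ.1, fun hcon => hpRQ.2 ((hQinv.iff hk p).mpr hcon)⟩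
      rw [hp, Finset.mem_singleton] at h2
      exact h2
    have hpx0 : p ≠ x0 := fun h => hx0R (h ▸ hpRQ.1)
    have hap : a ≠ p := fun h => hpRQ.2 (h ▸ haQ)
    have hfixa : (∀ k ∈ (H ⊓ fixL [a] : Subgroup (Equiv.Perm GolayPt)), k x0 = x0) → False := by
      intro hfix
      have hle : (H ⊓ fixL [a] : Subgroup (Equiv.Perm GolayPt)) ≤ H ⊓ fixL [x0] := by
        intro k hk
        refine mem_inf_fixL.mpr ⟨(mem_inf_fixL.mp hk).1, ?_⟩
        intro b hb
        simp only [List.mem_cons, List.not_mem_nil, or_false] at hb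
        rw [hb]; exact hfix k hk
      have heq := Subgroup.eq_of_le_of_card_ge hle
        (by rw [hKc, card_stab_of_trans hc hall a])
      have hone : Q.card ≤ 1 := by
        rw [Finset.card_le_one]
        intro b hb b' hb'
        rw [hQ] at hb hb'
        obtain ⟨k, hk, rfl⟩ := mem_orbF.mp hb
        obtain ⟨k', hk', rfl⟩ := mem_orbF.mp hb'
        rw [← heq] at hk hk'
        rw [(mem_inf_fixL.mp hk).2 a (by simp), (mem_inf_fixL.mp hk').2 a (by simp)]
      omega
    obtain ⟨h, hh, hhx⟩ := hall x0 a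
    obtain ⟨a', ha'⟩ : ∃ a', a' = h p := ⟨_, rfl⟩
    have hfixa' : ∀ k ∈ (H ⊓ fixL [a] : Subgroup (Equiv.Perm GolayPt)), k a' = a' := by
      intro k hk
      have h1 := hKp _ (conj_mem_fix hh hhx hk)
      rw [Equiv.Perm.mul_apply, Equiv.Perm.mul_apply] at h1
      rw [ha']
      have := congrArg h h1
      simpa using this
    have ha'a : a' ≠ a := by
      rw [ha', ← hhx]; exact fun e => hpx0 (h.injective e)
    have ha'x0 : a' ≠ x0 := by
      intro e
      apply hfixa
      intro k hk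
      rw [← e]; exact hfixa' k hk
    have ha'p : a' ≠ p := by
      intro e
      apply hfixa
      intro k hk
      have hle : (H ⊓ fixL [x0] : Subgroup (Equiv.Perm GolayPt)) ≤ H ⊓ fixL [p] := by
        intro k' hk'
        refine mem_inf_fixL.mpr ⟨(mem_inf_fixL.mp hk').1, ?_⟩
        intro b hb
        simp only [List.mem_cons, List.not_mem_nil, or_false] at hb
        rw [hb]; exact hKp k' hk'
      have heq := Subgroup.eq_of_le_of_card_ge hle
        (by rw [hKc, card_stab_of_trans hc hall p])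
      have hkp : k ∈ (H ⊓ fixL [p] : Subgroup (Equiv.Perm GolayPt)) := by
        refine mem_inf_fixL.mpr ⟨(mem_inf_fixL.mp hk).1, ?_⟩
        intro b hb
        simp only [List.mem_cons, List.not_mem_nil, or_false] at hb
        rw [hb, ← e]; exact hfixa' k hk
      rw [← heq] at hkp
      exact (mem_inf_fixL.mp hkp).2 x0 (by simp)
    have hl4 : ([a', p, a, x0] : List GolayPt).Nodup :=
      List.nodup_cons.mpr ⟨by simp [ha'p, ha'a, ha'x0],
        List.nodup_cons.mpr ⟨by simp [hap.symm, hpx0],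
          List.nodup_cons.mpr ⟨by simp [hax0], List.nodup_singleton x0⟩⟩⟩
    have h960 : Nat.card (H ⊓ fixL [a, x0] : Subgroup (Equiv.Perm GolayPt)) = 960 := by
      rw [h6c] at hch; omega
    have hleF : (H ⊓ fixL [a, x0] : Subgroup (Equiv.Perm GolayPt)) ≤ M24 ⊓ fixL [a', p, a, x0] := by
      intro k hk
      have hk' := mem_inf_fixL.mp hk
      have hka : k ∈ (H ⊓ fixL [a] : Subgroup (Equiv.Perm GolayPt)) :=
        mem_inf_fixL.mpr ⟨hk'.1, fun b hb => hk'.2 b (by
          simp only [List.mem_cons, List.not_mem_nil, or_false] at hb; simp [hb])⟩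
      have hkx : k ∈ (H ⊓ fixL [x0] : Subgroup (Equiv.Perm GolayPt)) :=
        mem_inf_fixL.mpr ⟨hk'.1, fun b hb => hk'.2 b (by
          simp only [List.mem_cons, List.not_mem_nil, or_false] at hb; simp [hb])⟩
      refine mem_inf_fixL.mpr ⟨hH hk'.1, ?_⟩
      intro b hb
      simp only [List.mem_cons, List.not_mem_nil, or_false] at hb
      rcases hb with rfl | rfl | rfl | rfl
      · exact hfixa' k hka
      · exact hKp k hkx
      · exact hk'.2 _ (by simp)
      · exact hk'.2 _ (by simp)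
    have heqF := Subgroup.eq_of_le_of_card_ge hleF
      (by rw [h960, card_fix4 _ hl4 rfl])
    have hQinv4 : Inv (M24 ⊓ fixL [a', p, a, x0]) Q := by
      rw [← heqF]
      exact hQinv.mono (fixL_cons_le H a [x0])
    have hmem := inv_sub4 _ hl4 rfl hQinv4 (by omega)
    have hsub : Q ⊆ ([a', p, a, x0] : List GolayPt).toFinset :=
      fun y hy => List.mem_toFinset.mpr (hmem y hy)
    have h1 := Finset.card_le_card hsub
    have h2 := List.toFinset_card_le ([a', p, a, x0] : List GolayPt)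
    simp only [List.length_cons, List.length_nil] at h2
    omega

/-- an invariant set of three points of the stabilizer of a point: the subgroup stabilizes a
sextet. -/
theorem case20 (hH : H ≤ M24) (hc : Nat.card H = 138240)
    (hall : ∀ a b : GolayPt, ∃ g ∈ H, g a = b) {x0 : GolayPt} {R : Finset GolayPt}
    (hRinv : Inv (H ⊓ fixL [x0]) R) (hRc : R.card = 3) (hx0R : x0 ∉ R) :
    ∃ S ∈ sextets, H = M24 ⊓ MulAction.stabilizer (Equiv.Perm GolayPt) S := by
  have hKc := card_stab_of_trans hc hall x0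
  obtain ⟨l4, hl4n, hl4len, hl4mem, hl4card⟩ := chain_inv 3 H [x0] R hRinv hRc
    (by
      intro b hb hmem
      simp only [List.mem_cons, List.not_mem_nil, or_false] at hmem
      exact hx0R (hmem ▸ hb))
    (by simp)
  have hl4len' : l4.length = 4 := by rw [hl4len]; rfl
  have h960 := card_fix4 l4 hl4n hl4len'
  have hle960 := card_le_fix hH l4
  rw [hKc] at hl4card
  have h6 : Nat.factorial 3 = 6 := rfl
  rw [h6] at hl4card
  have hJeq : (H ⊓ fixL l4 : Subgroup (Equiv.Perm GolayPt)) = M24 ⊓ fixL l4 :=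
    Subgroup.eq_of_le_of_card_ge (inf_le_inf_right _ hH) (by omega)
  obtain ⟨T4, hT4⟩ : ∃ T4, T4 = insert x0 R := ⟨_, rfl⟩
  have hT4c : T4.card = 4 := by rw [hT4, Finset.card_insert_of_notMem hx0R, hRc]
  have hx0T4 : x0 ∈ T4 := by rw [hT4]; exact Finset.mem_insert_self _ _
  have hRT4 : ∀ r ∈ R, r ∈ T4 := fun r hr => by rw [hT4]; exact Finset.mem_insert_of_mem hr
  have hT4mem : ∀ b, b ∈ l4 ↔ b ∈ T4 := by
    intro b
    rw [hl4mem, hT4, Finset.mem_insert]
    simp only [List.mem_cons, List.not_mem_nil, or_false]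
    exact or_comm
  have hJH : ∀ j ∈ (M24 ⊓ fixL l4 : Subgroup (Equiv.Perm GolayPt)), j ∈ H := by
    intro j hj
    rw [← hJeq] at hj
    exact (mem_inf_fixL.mp hj).1
  -- the four points form a block
  have hblock0 : ∀ h ∈ H, h x0 ∈ T4 → h • T4 = T4 := by
    intro h hh hw
    obtain ⟨w, hwe⟩ : ∃ w, w = h x0 := ⟨_, rfl⟩
    rw [← hwe] at hw
    have hinv := inv_conj hh hwe.symm hRinv
    have hinv' : Inv (M24 ⊓ fixL l4) (h • R) := by
      intro j hj b hb
      apply hinv j _ b hb
      refine mem_inf_fixL.mpr ⟨hJH j hj, ?_⟩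
      intro c hc'
      simp only [List.mem_cons, List.not_mem_nil, or_false] at hc'
      rw [hc']
      exact (mem_inf_fixL.mp hj).2 w ((hT4mem w).mpr hw)
    have hsub := inv_sub4 l4 hl4n hl4len' hinv'
      (by rw [Finset.card_smul_finset, hRc]; norm_num)
    have hsub' : h • T4 ⊆ T4 := by
      intro b hb
      obtain ⟨r, hr, rfl⟩ := Finset.mem_smul_finset.mp hb
      rw [hT4, Finset.mem_insert] at hr
      rcases hr with hr | hr
      · rw [hr, Equiv.Perm.smul_def, ← hwe]; exact hw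
      · exact (hT4mem _).mp (hsub _ (Finset.smul_mem_smul_finset hr))
    exact Finset.eq_of_subset_of_card_le hsub' (by rw [Finset.card_smul_finset])
  have hblock : ∀ h ∈ H, ∀ r ∈ T4, h r ∈ T4 → h • T4 = T4 := by
    intro h hh r hr hhr
    obtain ⟨l1, hl1, hl1r⟩ := hall x0 r
    have e1 := hblock0 l1 hl1 (hl1r ▸ hr)
    have e2 := hblock0 (h * l1) (H.mul_mem hh hl1)
      (by rw [Equiv.Perm.mul_apply, hl1r]; exact hhr)
    rw [mul_smul, e1] at e2
    exact e2
  obtain ⟨S, hS, hT4S⟩ := exists_sextet T4 hT4c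
  have hstabS : ∀ h ∈ H, h • S = S := by
    intro h hh
    obtain ⟨w, hwe⟩ : ∃ w, w = h x0 := ⟨_, rfl⟩
    by_cases hw : w ∈ T4
    · have := hblock0 h hh (hwe ▸ hw)
      exact smul_sextet_eq (hH hh) hS hS hT4S hT4S this
    · obtain ⟨Tw, hTwS, hwTw⟩ := sextet_cover hS w
      have hne : Tw ≠ T4 := fun e => hw (e ▸ hwTw)
      have hdisj := sextet_disjoint hS hTwS hT4S hne
      have hTwc : Tw.card = 4 := hS.2.1 Tw hTwS
      have hdisj2 : ∀ r ∈ T4, h r ∉ T4 := by
        intro r hr hcon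
        have e := hblock h hh r hr hcon
        apply hw
        rw [hwe, ← e]
        exact Finset.smul_mem_smul_finset (a := h) hx0T4
      have hwl4 : w ∉ l4 := fun hcon => hw ((hT4mem w).mp hcon)
      have hl5n : (w :: l4).Nodup := List.nodup_cons.mpr ⟨hwl4, hl4n⟩
      have hl5len : (w :: l4).length = 5 := by rw [List.length_cons, hl4len']
      have hJ5 : ∀ j ∈ (M24 ⊓ fixL (w :: l4) : Subgroup (Equiv.Perm GolayPt)),
          j ∈ (M24 ⊓ fixL l4 : Subgroup (Equiv.Perm GolayPt)) :=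
        fun j hj => fixL_cons_le M24 w l4 hj
      have hinv1 : Inv (M24 ⊓ fixL (w :: l4)) (h • R) := by
        have hinv := inv_conj hh hwe.symm hRinv
        intro j hj b hb
        apply hinv j _ b hb
        refine mem_inf_fixL.mpr ⟨hJH j (hJ5 j hj), ?_⟩
        intro c hc'
        simp only [List.mem_cons, List.not_mem_nil, or_false] at hc'
        rw [hc']
        exact fix_of_mem_cons hj
      have hinv2 : Inv (M24 ⊓ fixL (w :: l4)) (Tw.erase w) := by
        intro j hj b hb
        have hj4 := mem_inf_fixL.mp (hJ5 j hj)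
        have hjw : j w = w := fix_of_mem_cons hj
        have e1 : j • T4 = T4 := by
          rw [smul_finset_eq_iff]
          intro c hc'
          rw [hj4.2 c ((hT4mem c).mpr hc')]; exact hc'
        have e2 : j • S = S := smul_sextet_eq hj4.1 hS hS hT4S hT4S e1
        have e3 : j • Tw ∈ S := by
          have : j • Tw ∈ j • S := Finset.smul_mem_smul_finset hTwS
          rw [e2] at this
          exact this
        have hw' : w ∈ j • Tw := by
          have : j • w ∈ j • Tw := Finset.smul_mem_smul_finset hwTw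
          rw [Equiv.Perm.smul_def, hjw] at this
          exact this
        have e4 : j • Tw = Tw := sextet_eq_of_mem hS e3 hTwS hw' hwTw
        rw [Finset.mem_erase] at hb ⊢
        refine ⟨?_, ?_⟩
        · intro hcon
          exact hb.1 (j.injective (hcon.trans hjw.symm))
        · exact smul_finset_eq_iff.mp e4 b hb.2
      have hc1 : (h • R).card = 3 := by rw [Finset.card_smul_finset, hRc]
      have hc2 : (Tw.erase w).card = 3 := by rw [Finset.card_erase_of_mem hwTw, hTwc]
      have hd1 : ∀ b ∈ h • R, b ∉ w :: l4 := by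
        intro b hb hmem
        obtain ⟨r, hr, rfl⟩ := Finset.mem_smul_finset.mp hb
        rcases List.mem_cons.mp hmem with e | e
        · rw [hwe, Equiv.Perm.smul_def] at e
          have : r = x0 := h.injective e
          exact hx0R (this ▸ hr)
        · exact hdisj2 r (hRT4 r hr) ((hT4mem _).mp e)
      have hd2 : ∀ b ∈ Tw.erase w, b ∉ w :: l4 := by
        intro b hb hmem
        rw [Finset.mem_erase] at hb
        rcases List.mem_cons.mp hmem with e | e
        · exact hb.1 e
        · exact Finset.disjoint_left.mp hdisj hb.2 ((hT4mem b).mp e)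
      have hZ := inv3_unique (w :: l4) hl5n hl5len hinv1 hinv2 hc1 hc2 hd1 hd2
      have e5 : h • T4 = Tw := by
        rw [hT4, Finset.smul_finset_insert, hZ, Equiv.Perm.smul_def, ← hwe,
          Finset.insert_erase hwTw]
      exact smul_sextet_eq (hH hh) hS hS hT4S hTwS e5
  refine ⟨S, hS, ?_⟩
  apply Subgroup.eq_of_le_of_card_ge
  · intro g hg
    rw [Subgroup.mem_inf]
    exact ⟨hH hg, MulAction.mem_stabilizer_iff.mpr (hstabS g hg)⟩
  · rw [card_stab_sextet' hS, hc]

theorem thm1771_std (hH : H ≤ M24) (hc : Nat.card H = 138240) (hP : P2' ≤ H) :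
    ∃ S ∈ sextets, H = M24 ⊓ MulAction.stabilizer (Equiv.Perm GolayPt) S := by
  obtain ⟨x0, hx0⟩ : ∃ x0, x0 = idxPtN 0 := ⟨_, rfl⟩
  obtain ⟨p5, hp5⟩ : ∃ p5, p5 = idxPtN 5 := ⟨_, rfl⟩
  obtain ⟨o, hoe⟩ : ∃ o, o = suppM 5279 := ⟨_, rfl⟩
  have ho : o ∈ octads := hoe ▸ oct5279_mem
  have hx0o : x0 ∈ o := by rw [hx0, hoe]; exact x0_mem_oct0
  have hp5o : p5 ∉ o := by rw [hp5, hoe]; exact p5_notMem_oct0
  have hp5x0 : p5 ≠ x0 := fun h => hp5o (h ▸ hx0o)
  have horb := orbit_x0 hP
  rw [← hx0, ← hoe] at horb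
  have horb' : orbF H x0 = Finset.univ := by
    rcases horb with horb | horb
    · exfalso
      have h1 := card_orb_mul H x0
      rw [hc, horb, ho.2] at h1
      have h2 := card_dvd_fix hH [x0]
      rw [card_fix1] at h2
      have hk : Nat.card (H ⊓ fixL [x0] : Subgroup (Equiv.Perm GolayPt)) = 17280 := by omega
      rw [hk] at h2
      norm_num at h2
    · exact horb
  have hall : ∀ a b : GolayPt, ∃ g ∈ H, g a = b := by
    intro a b
    have ha : a ∈ orbF H x0 := by rw [horb']; exact Finset.mem_univ a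
    have hb : b ∈ orbF H x0 := by rw [horb']; exact Finset.mem_univ b
    obtain ⟨g1, hg1, hg1a⟩ := mem_orbF.mp ha
    obtain ⟨g2, hg2, hg2b⟩ := mem_orbF.mp hb
    refine ⟨g2 * g1⁻¹, H.mul_mem hg2 (H.inv_mem hg1), ?_⟩
    rw [Equiv.Perm.mul_apply, ← hg1a]
    simp [hg2b]
  have hKc := card_stab_of_trans hc hall x0
  have hA16 : Finset.univ \ o ⊆ orbF (H ⊓ fixL [x0]) p5 := by
    intro p hp
    rw [Finset.mem_sdiff] at hp
    obtain ⟨σ, hσ, hσ0, hσp⟩ := P2'_orbit16 (hoe ▸ hp.2)
    refine mem_orbF.mpr ⟨σ, mem_inf_fixL.mpr ⟨hP hσ, ?_⟩, hp5 ▸ hσp⟩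
    intro b hb
    simp only [List.mem_cons, List.not_mem_nil, or_false] at hb
    rw [hb, hx0]
    exact hσ0
  have hA16c : (Finset.univ \ o).card = 16 := by
    rw [Finset.card_sdiff_of_subset (Finset.subset_univ _), Finset.card_univ, card_golay, ho.2]
  have hch := card_chain H [x0] p5
  rw [hKc] at hch
  have hle := orbF_card_le (K := H) (l := [x0]) (a := p5) (by simp [hp5x0]) (by simp)
  have hge := Finset.card_le_card hA16
  rw [hA16c] at hge
  simp only [List.length_singleton] at hle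
  obtain ⟨R, hR⟩ : ∃ R, R = Finset.univ \ insert x0 (orbF (H ⊓ fixL [x0]) p5) := ⟨_, rfl⟩
  have hx0O : x0 ∉ orbF (H ⊓ fixL [x0]) p5 := by
    intro hcon
    exact orbF_fix_notMem (K := H) (l := [x0]) (a := p5) (by simp [hp5x0]) hcon (by simp)
  have hRc : R.card + (orbF (H ⊓ fixL [x0]) p5).card = 23 := by
    rw [hR, Finset.card_sdiff_of_subset (Finset.subset_univ _), Finset.card_univ, card_golay,
      Finset.card_insert_of_notMem hx0O]
    omega
  have hRinv : Inv (H ⊓ fixL [x0]) R := by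
    intro k hk a ha
    rw [hR, Finset.mem_sdiff, Finset.mem_insert, not_or] at ha ⊢
    refine ⟨Finset.mem_univ _, ?_, ?_⟩
    · intro hcon
      have hkx : k x0 = x0 := (mem_inf_fixL.mp hk).2 x0 (by simp)
      rw [← hkx] at hcon
      exact ha.2.1 (k.injective hcon)
    · intro hcon
      exact ha.2.2 (((inv_orbF (H ⊓ fixL [x0]) p5).iff hk a).mpr hcon)
  have hx0R : x0 ∉ R := by
    rw [hR, Finset.mem_sdiff, Finset.mem_insert]
    exact fun h => h.2 (Or.inl rfl)
  have hcases : (orbF (H ⊓ fixL [x0]) p5).card = 16 ∨ (orbF (H ⊓ fixL [x0]) p5).card = 18 ∨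
      (orbF (H ⊓ fixL [x0]) p5).card = 20 := by
    generalize (orbF (H ⊓ fixL [x0]) p5).card = n at *
    generalize Nat.card (H ⊓ fixL [p5, x0] : Subgroup (Equiv.Perm GolayPt)) = m at *
    have hn : n ≤ 23 := by omega
    interval_cases n <;> omega
  rcases hcases with h16 | h18 | h20
  · exact (case16 hH hc hall hRinv (by omega) hx0R).elim
  · have := kill5 hH hRinv (by omega) hx0R
    rw [hKc] at this
    omega
  · exact case20 hH hc hall hRinv (by omega) hx0R

/-- subgroups of order 138240 are the stabilizers of the sextets. -/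
theorem thm1771 (hH : H ≤ M24) (hc : Nat.card H = 138240) :
    ∃ S ∈ sextets, H = M24 ⊓ MulAction.stabilizer (Equiv.Perm GolayPt) S := by
  obtain ⟨c, hcM, hP⟩ := exists_conj_ge_P2' hH (by rw [hc]; norm_num)
  obtain ⟨S, hS, h1⟩ := thm1771_std (conjSub_le_M24 hcM hH) (by rw [card_conjSub, hc]) hP
  exact ⟨c⁻¹ • S, smul_mem_sextets (M24.inv_mem hcM) hS, eq_stab_of_conjSub hcM h1⟩

end Cfsg.Agent.Helper5.M24Sub
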