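import Mathlib
import Cfsg.Prelude.Def_Sporadic_a
import Cfsg.Agent.Helper5.M24Sub.Tools
import Cfsg.Agent.Helper9.Golay.OctA8
import Cfsg.Agent.S1564
import Cfsg.Agent.S1565

set_option autoImplicit false

/-!
The group of the length-24 code has no subgroup of index 253.
-/

namespace Cfsg.Agent.Helper5.M24Sub

open Cfsg Cfsg.Agent.Helper9.Golay Cfsg.Agent.Helper9.M22Sub Cfsg.Agent.Helper9.M23Sub
open scoped Pointwise

variable {H : Subgroup (Equiv.Perm GolayPt)}

/-- a subgroup containing the stabilizer of a set, when that stabilizer is a maximal subgroup,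
is the stabilizer or the whole group. -/
theorem coatom_contra {s : Finset GolayPt} (hco : IsCoatom (MulAction.stabilizer M24 s))
    (hH : H ≤ M24) (hsub : ∀ g ∈ M24, g • s = s → g ∈ H) (hne : Nat.card H ≠ 244823040)
    (hmove : ∃ g ∈ H, g • s ≠ s) : False := by
  let H0 : Subgroup ↥M24 := H.subgroupOf M24
  have hH0 : Nat.card H0 = Nat.card H :=
    Nat.card_congr (Subgroup.subgroupOfEquivOfLe hH).toEquiv
  have hle : MulAction.stabilizer M24 s ≤ H0 := by
    intro g hg
    rw [MulAction.mem_stabilizer_iff] at hg
    rw [Subgroup.mem_subgroupOf]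
    exact hsub g.1 g.2 hg
  rcases eq_or_lt_of_le hle with heq | hlt
  · obtain ⟨g, hg, hgs⟩ := hmove
    have : (⟨g, hH hg⟩ : ↥M24) ∈ H0 := Subgroup.mem_subgroupOf.mpr hg
    rw [← heq, MulAction.mem_stabilizer_iff] at this
    exact hgs this
  · have htop := hco.2 H0 hlt
    apply hne
    rw [← hH0, htop, Subgroup.card_top]
    exact card_M24

/-- if the stabilizer of a point `x` in `H` contains the stabilizer in the whole group of `x` and
a set `T` through `x`, and elements of `H` stabilizing `T` map `x` to all the points of `T`, then `H`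
contains the stabilizer of `T`. -/
theorem stab_le_of_trans (hH : H ≤ M24) {T : Finset GolayPt} {x : GolayPt}
    (hK : ∀ g ∈ M24, g x = x → g • T = T → g ∈ H)
    (htr : ∀ t ∈ T, ∃ k ∈ H, k • T = T ∧ k x = t) (hx : x ∈ T) :
    ∀ g ∈ M24, g • T = T → g ∈ H := by
  intro g hg hgT
  have hgx : g x ∈ T := by
    rw [← hgT]
    exact Finset.smul_mem_smul_finset (a := g) hx
  obtain ⟨k, hk, hkT, hkx⟩ := htr _ hgx
  have h1 : k⁻¹ * g ∈ H := by
    apply hK
    · exact M24.mul_mem (M24.inv_mem (hH hk)) hg
    · rw [Equiv.Perm.mul_apply, ← hkx]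
      simp
    · rw [mul_smul, hgT, inv_smul_eq_iff, hkT]
  have : g = k * (k⁻¹ * g) := by group
  rw [this]
  exact H.mul_mem hk h1

theorem thm253 (hH : H ≤ M24) (hc : Nat.card H = 967680) : False := by
  -- transitivity
  have htrans : ∀ a, (orbF H a).card = 24 := by
    intro a
    have h1 := orb_dvd hH [] a
    rw [fixL_nil_inf, card_fix1, hc] at h1
    have hpos := orbF_card_pos H a
    have hle : (orbF H a).card ≤ 24 := by
      have := Finset.card_le_univ (orbF H a)
      rwa [card_golay] at this
    obtain ⟨k, hk⟩ := h1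
    omega
  have hall : ∀ a b : GolayPt, ∃ g ∈ H, g a = b := by
    intro a b
    have h1 : orbF H a = Finset.univ := by
      apply Finset.eq_univ_of_card
      rw [htrans a, card_golay]
    have : b ∈ orbF H a := by rw [h1]; exact Finset.mem_univ b
    exact mem_orbF.mp this
  obtain ⟨x⟩ : Nonempty GolayPt := ⟨idxPtN 0⟩
  have hKc : Nat.card (H ⊓ fixL [x] : Subgroup (Equiv.Perm GolayPt)) = 40320 := by
    have := card_orb_mul H x
    rw [hc, htrans x] at this
    omega
  have hKle : (H ⊓ fixL [x] : Subgroup (Equiv.Perm GolayPt)) ≤ G1 x := inf_le_inf_right _ hH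
  have hne : Nat.card H ≠ 244823040 := by rw [hc]; norm_num
  rcases pair_or_seven hKle hKc with ⟨u, hu, h2⟩ | ⟨b, hb, h7⟩
  · -- a pair
    have hKeq := eq_pair_stab hKle hKc hu h2
    obtain ⟨s, hs⟩ : ∃ s, s = orbF (H ⊓ fixL [x]) u := ⟨_, rfl⟩
    rw [← hs] at hKeq h2
    have hus : u ∈ s := by rw [hs]; exact self_mem_orbF _ u
    have hsub : s ⊆ Om1 x := by rw [hs]; exact orbF_sub_Om1 hKle hu
    have hxs : x ∉ s := fun h => (mem_Om1.mp (hsub h)) rfl
    have hux : u ≠ x := mem_Om1.mp hu
    obtain ⟨γ, hγs, hγu⟩ : ∃ γ ∈ s, γ ≠ u := Finset.exists_mem_ne (by rw [h2]; norm_num) u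
    have hγx : γ ≠ x := fun h => hxs (h ▸ hγs)
    have hs2 : s = {u, γ} := by
      symm
      apply Finset.eq_of_subset_of_card_le
      · intro a ha
        rw [Finset.mem_insert, Finset.mem_singleton] at ha
        rcases ha with rfl | rfl
        · exact hus
        · exact hγs
      · rw [h2, Finset.card_pair hγu.symm]
    obtain ⟨T, hT⟩ : ∃ T, T = insert x s := ⟨_, rfl⟩
    have hTc : T.card = 3 := by rw [hT, Finset.card_insert_of_notMem hxs, h2]
    have hmemT : ∀ a, a ∈ T ↔ a = x ∨ a = u ∨ a = γ := by
      intro a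
      rw [hT, hs2]
      simp
    -- the stabilizer of `x` and `T` lies in `H`
    have hK : ∀ g ∈ M24, g x = x → g • T = T → g ∈ H := by
      intro g hg hgx hgT
      have : g ∈ H ⊓ fixL [x] := by
        rw [hKeq, mem_SetStab, mem_G1]
        refine ⟨⟨hg, hgx⟩, ?_⟩
        intro a ha
        have h1 : g a ∈ T := by
          rw [← hgT]
          exact Finset.smul_mem_smul_finset (a := g) (by rw [hT]; exact Finset.mem_insert_of_mem ha)
        rw [hT, Finset.mem_insert] at h1
        rcases h1 with h1 | h1
        · exfalso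
          rw [← hgx] at h1
          exact hxs (g.injective h1 ▸ ha)
        · exact h1
      exact (Subgroup.mem_inf.mp this).1
    -- elements of `K` stabilize `T`
    have hKT : ∀ k ∈ (H ⊓ fixL [x] : Subgroup (Equiv.Perm GolayPt)), k • T = T := by
      intro k hk
      have hk' := hk
      rw [hKeq, mem_SetStab, mem_G1] at hk'
      rw [smul_finset_eq_iff]
      intro a ha
      rw [hT, Finset.mem_insert] at ha ⊢
      rcases ha with rfl | ha
      · exact Or.inl hk'.1.2
      · exact Or.inr (hk'.2 a ha)
    -- an element of `H` mapping `x` to `u` stabilizes `T`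
    obtain ⟨h, hh, hhx⟩ := hall x u
    have hhT : h • T = T := by
      -- the image of `s` is invariant under the stabilizer of the three points
      have hinv : ∀ g ∈ M24, g x = x → g u = u → g γ = γ → ∀ a ∈ h • s, g a ∈ h • s := by
        intro g hg hgx hgu hgγ a ha
        have hgH : g ∈ H := by
          apply hK g hg hgx
          rw [smul_finset_eq_iff]
          intro c hc
          rw [hmemT] at hc ⊢
          rcases hc with rfl | rfl | rfl
          · exact Or.inl hgx
          · exact Or.inr (Or.inl hgu)
          · exact Or.inr (Or.inr hgγ)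
        -- `h⁻¹ g h` is in `K`
        have hconj : h⁻¹ * g * h ∈ (H ⊓ fixL [x] : Subgroup (Equiv.Perm GolayPt)) := by
          refine mem_inf_fixL.mpr ⟨H.mul_mem (H.mul_mem (H.inv_mem hh) hgH) hh, ?_⟩
          intro c hc
          simp only [List.mem_cons, List.not_mem_nil, or_false] at hc
          rw [hc, Equiv.Perm.mul_apply, Equiv.Perm.mul_apply, hhx, hgu, ← hhx]
          simp
        have hconj' := hconj
        rw [hKeq, mem_SetStab] at hconj'
        obtain ⟨a0, ha0, rfl⟩ := Finset.mem_smul_finset.mp ha
        have h1 := hconj'.2 a0 ha0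
        have h2 : g (h a0) = h ((h⁻¹ * g * h) a0) := by
          simp [Equiv.Perm.mul_apply]
        change g (h a0) ∈ h • s
        rw [h2]
        exact Finset.smul_mem_smul_finset (a := h) h1
      have hsub' : h • s ⊆ {x, γ} := by
        intro a ha
        by_contra hcon
        rw [Finset.mem_insert, Finset.mem_singleton, not_or] at hcon
        have hau : a ≠ u := by
          rintro rfl
          obtain ⟨a0, ha0, hae⟩ := Finset.mem_smul_finset.mp ha
          have : a0 = x := by
            apply h.injective
            rw [hhx]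
            exact hae
          exact hxs (this ▸ ha0)
        -- all other points would be in the image
        have hbig : Finset.univ \ {x, u, γ} ⊆ h • s := by
          intro q hq
          rw [Finset.mem_sdiff, Finset.mem_insert, Finset.mem_insert, Finset.mem_singleton,
            not_or, not_or] at hq
          obtain ⟨g, hg, hmap⟩ := m24_map_list [x, u, γ, a] [x, u, γ, q]
            (by
              simp only [List.nodup_cons, List.mem_cons, List.not_mem_nil, or_false, not_or,
                List.nodup_nil, and_true, not_false_eq_true]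
              exact ⟨⟨hux.symm, hγx.symm, Ne.symm hcon.1⟩, ⟨hγu.symm, hau.symm⟩, Ne.symm hcon.2⟩)
            (by
              simp only [List.nodup_cons, List.mem_cons, List.not_mem_nil, or_false, not_or,
                List.nodup_nil, and_true, not_false_eq_true]
              exact ⟨⟨hux.symm, hγx.symm, Ne.symm hq.2.1⟩, ⟨hγu.symm, Ne.symm hq.2.2.1⟩,
                Ne.symm hq.2.2.2⟩)
            rfl (by simp)
          simp only [List.map_cons, List.map_nil, List.cons.injEq, and_true] at hmap
          have := hinv g hg hmap.1 hmap.2.1 hmap.2.2.1 a ha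
          rwa [hmap.2.2.2] at this
        have h1 := Finset.card_le_card hbig
        have h3 : ({x, u, γ} : Finset GolayPt).card ≤ 3 := Finset.card_le_three
        rw [Finset.card_sdiff_of_subset (Finset.subset_univ _), Finset.card_univ, card_golay,
          Finset.card_smul_finset, h2] at h1
        omega
      rw [smul_finset_eq_iff]
      intro a ha
      rw [hT, Finset.mem_insert] at ha
      rw [hmemT]
      rcases ha with rfl | ha
      · exact Or.inr (Or.inl hhx)
      · have := hsub' (Finset.smul_mem_smul_finset (a := h) ha)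
        rw [Finset.mem_insert, Finset.mem_singleton] at this
        rcases this with h1 | h1
        · exact Or.inl h1
        · exact Or.inr (Or.inr h1)
    have htr : ∀ t ∈ T, ∃ k ∈ H, k • T = T ∧ k x = t := by
      intro t ht
      rw [hT, Finset.mem_insert] at ht
      rcases ht with rfl | ht
      · exact ⟨1, H.one_mem, one_smul _ _, rfl⟩
      · rw [hs] at ht
        obtain ⟨k, hk, hku⟩ := mem_orbF.mp ht
        refine ⟨k * h, H.mul_mem (Subgroup.mem_inf.mp hk).1 hh, ?_, ?_⟩
        · rw [mul_smul, hhT, hKT k hk]
        · rw [Equiv.Perm.mul_apply, hhx, hku]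
    have hsubT := stab_le_of_trans hH hK htr (by rw [hT]; exact Finset.mem_insert_self _ _)
    apply coatom_contra (Cfsg.Agent.S1564.result T hTc) hH hsubT hne
    -- an element of `H` moving `x` outside `T`
    obtain ⟨q, hq⟩ : ∃ q, q ∉ T := by
      by_contra hcon
      push Not at hcon
      have := Finset.card_le_card (fun a _ => hcon a : Finset.univ ⊆ T)
      rw [Finset.card_univ, card_golay, hTc] at this
      omega
    obtain ⟨g, hg, hgx⟩ := hall x q
    refine ⟨g, hg, fun hgT => hq ?_⟩
    rw [← hgx, ← hgT]
    exact Finset.smul_mem_smul_finset (a := g) (by rw [hT]; exact Finset.mem_insert_self _ _)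
  · -- an octad
    obtain ⟨ho, hKeq⟩ := eq_octad_stab hKle hKc hb h7
    obtain ⟨Y, hY⟩ : ∃ Y, Y = orbF (H ⊓ fixL [x]) b := ⟨_, rfl⟩
    rw [← hY] at ho hKeq h7
    obtain ⟨o, hoe⟩ : ∃ o, o = insert x Y := ⟨_, rfl⟩
    rw [← hoe] at ho hKeq
    have hxo : x ∈ o := by rw [hoe]; exact Finset.mem_insert_self _ _
    have hbY : b ∈ Y := by rw [hY]; exact self_mem_orbF _ b
    have hbo : b ∈ o := by rw [hoe]; exact Finset.mem_insert_of_mem hbY
    have hK : ∀ g ∈ M24, g x = x → g • o = o → g ∈ H := by
      intro g hg hgx hgo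
      have : g ∈ H ⊓ fixL [x] := by
        rw [hKeq, mem_SetStab, mem_G1]
        exact ⟨⟨hg, hgx⟩, smul_finset_eq_iff.mp hgo⟩
      exact (Subgroup.mem_inf.mp this).1
    have hKo : ∀ k ∈ (H ⊓ fixL [x] : Subgroup (Equiv.Perm GolayPt)), k • o = o := by
      intro k hk
      rw [hKeq, mem_SetStab] at hk
      exact smul_finset_eq_iff.mpr hk.2
    obtain ⟨h, hh, hhx⟩ := hall x b
    have hho : h • o = o := by
      have ho' : h • o ∈ octads := smul_mem_wordsOfWeight (hH hh) ho
      -- the pointwise stabilizer of `o` stabilizes the image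
      have hinv : ∀ g ∈ KO o, ∀ a ∈ h • o, g a ∈ h • o := by
        intro g hg a ha
        have hg' := mem_KO_iff.mp hg
        have hgH : g ∈ H := hK g hg'.1 (hg'.2 x hxo)
          (smul_finset_eq_iff.mpr (fun c hc => by rw [hg'.2 c hc]; exact hc))
        have hconj : h⁻¹ * g * h ∈ (H ⊓ fixL [x] : Subgroup (Equiv.Perm GolayPt)) := by
          refine mem_inf_fixL.mpr ⟨H.mul_mem (H.mul_mem (H.inv_mem hh) hgH) hh, ?_⟩
          intro c hc
          simp only [List.mem_cons, List.not_mem_nil, or_false] at hc
          rw [hc, Equiv.Perm.mul_apply, Equiv.Perm.mul_apply, hhx, hg'.2 b hbo, ← hhx]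
          simp
        have h1 := hKo _ hconj
        obtain ⟨a0, ha0, rfl⟩ := Finset.mem_smul_finset.mp ha
        have h2 : g (h a0) = h ((h⁻¹ * g * h) a0) := by
          simp [Equiv.Perm.mul_apply]
        change g (h a0) ∈ h • o
        rw [h2]
        apply Finset.smul_mem_smul_finset (a := h)
        rw [← h1]
        exact Finset.smul_mem_smul_finset (a := h⁻¹ * g * h) ha0
      have hsub' : h • o ⊆ o := by
        intro a ha
        by_contra hao
        have hbig : Finset.univ \ o ⊆ h • o := by
          intro q hq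
          rw [Finset.mem_sdiff] at hq
          obtain ⟨g, hg, hgq⟩ := KO_trans ho hao hq.2
          rw [← hgq]
          exact hinv g hg a ha
        have h1 := Finset.card_le_card hbig
        rw [Finset.card_sdiff_of_subset (Finset.subset_univ _), Finset.card_univ, card_golay,
          Finset.card_smul_finset, ho.2] at h1
        omega
      exact Finset.eq_of_subset_of_card_le hsub' (by rw [Finset.card_smul_finset])
    have htr : ∀ t ∈ o, ∃ k ∈ H, k • o = o ∧ k x = t := by
      intro t ht
      rw [hoe, Finset.mem_insert] at ht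
      rcases ht with rfl | ht
      · exact ⟨1, H.one_mem, one_smul _ _, rfl⟩
      · rw [hY] at ht
        obtain ⟨k, hk, hkb⟩ := mem_orbF.mp ht
        refine ⟨k * h, H.mul_mem (Subgroup.mem_inf.mp hk).1 hh, ?_, ?_⟩
        · rw [mul_smul, hho, hKo k hk]
        · rw [Equiv.Perm.mul_apply, hhx, hkb]
    have hsubT := stab_le_of_trans hH hK htr hxo
    apply coatom_contra (Cfsg.Agent.S1565.result o ho) hH hsubT hne
    obtain ⟨q, hq⟩ : ∃ q, q ∉ o := by
      by_contra hcon
      push Not at hcon
      have := Finset.card_le_card (fun a _ => hcon a : Finset.univ ⊆ o)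
      rw [Finset.card_univ, card_golay, ho.2] at this
      omega
    obtain ⟨g, hg, hgx⟩ := hall x q
    refine ⟨g, hg, fun hgo => hq ?_⟩
    rw [← hgx, ← hgo]
    exact Finset.smul_mem_smul_finset (a := g) hxo

end Cfsg.Agent.Helper5.M24Sub
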