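import Mathlib
import Cfsg.Prelude.Def_Sporadic_a
import Cfsg.Agent.Helper5.M24Sub.Tools

set_option autoImplicit false

/-!
Subgroups of index 276 in the group of the length-24 code are the stabilizers of the pairs of points.
-/

namespace Cfsg.Agent.Helper5.M24Sub

open Cfsg Cfsg.Agent.Helper9.Golay Cfsg.Agent.Helper9.M22Sub Cfsg.Agent.Helper9.M23Sub
open scoped Pointwise

variable {H : Subgroup (Equiv.Perm GolayPt)}

/-- the stabilizer of a pair of points has order 887040. -/
theorem card_duad_stab (s : Finset GolayPt) (hs : s.card = 2) :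
    Nat.card (M24 ⊓ MulAction.stabilizer (Equiv.Perm GolayPt) s :
      Subgroup (Equiv.Perm GolayPt)) = 887040 := by
  obtain ⟨a, b, hab, rfl⟩ := Finset.card_eq_two.mp hs
  obtain ⟨K, hKdef⟩ : ∃ K : Subgroup (Equiv.Perm GolayPt),
      K = M24 ⊓ MulAction.stabilizer (Equiv.Perm GolayPt) ({a, b} : Finset GolayPt) := ⟨_, rfl⟩
  rw [← hKdef]
  have hmemK : ∀ g, g ∈ K ↔ g ∈ M24 ∧ ∀ c ∈ ({a, b} : Finset GolayPt), g c ∈ ({a, b} : Finset GolayPt) := by
    intro g
    rw [hKdef, Subgroup.mem_inf]
    exact and_congr Iff.rfl (by rw [MulAction.mem_stabilizer_iff, smul_finset_eq_iff])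
  have h1 := card_orb_mul K a
  have horb : orbF K a = {a, b} := by
    ext c
    rw [mem_orbF]
    constructor
    · rintro ⟨g, hg, rfl⟩
      exact ((hmemK g).mp hg).2 a (by simp)
    · intro hc
      rw [Finset.mem_insert, Finset.mem_singleton] at hc
      rcases hc with rfl | rfl
      · exact ⟨1, K.one_mem, rfl⟩
      · obtain ⟨g, hg, hmap⟩ := m24_map_list [a, c] [c, a] (by simp [hab]) (by simp [Ne.symm hab])
          rfl (by simp)
        simp only [List.map_cons, List.map_nil, List.cons.injEq, and_true] at hmap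
        refine ⟨g, (hmemK g).mpr ⟨hg, ?_⟩, hmap.1⟩
        intro d hd
        rw [Finset.mem_insert, Finset.mem_singleton] at hd
        rcases hd with rfl | rfl
        · rw [hmap.1]; simp
        · rw [hmap.2]; simp
  have hstab : K ⊓ fixL [a] = M24 ⊓ fixL [b, a] := by
    ext g
    rw [mem_inf_fixL, mem_inf_fixL, hmemK]
    constructor
    · rintro ⟨⟨hg, hinv⟩, hfa⟩
      refine ⟨hg, ?_⟩
      have ha : g a = a := hfa a (by simp)
      have hb := hinv b (by simp)
      rw [Finset.mem_insert, Finset.mem_singleton] at hb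
      intro d hd
      simp only [List.mem_cons, List.not_mem_nil, or_false] at hd
      rcases hd with rfl | rfl
      · rcases hb with hb | hb
        · exfalso
          rw [← ha] at hb
          exact hab (g.injective hb).symm
        · exact hb
      · exact ha
    · rintro ⟨hg, hfix⟩
      have ha : g a = a := hfix a (by simp)
      have hb : g b = b := hfix b (by simp)
      refine ⟨⟨hg, ?_⟩, ?_⟩
      · intro d hd
        rw [Finset.mem_insert, Finset.mem_singleton] at hd
        rcases hd with rfl | rfl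
        · rw [ha]; simp
        · rw [hb]; simp
      · intro d hd
        simp only [List.mem_cons, List.not_mem_nil, or_false] at hd
        rw [hd]; exact ha
  rw [horb, hstab, card_fix2 [b, a] (by simp [Ne.symm hab]) rfl, Finset.card_pair hab] at h1
  rw [h1]

/-- subgroups of order 887040 are the stabilizers of the pairs of points. -/
theorem thm276 (hH : H ≤ M24) (hc : Nat.card H = 887040) :
    ∃ s : Finset GolayPt, s.card = 2 ∧
      H = M24 ⊓ MulAction.stabilizer (Equiv.Perm GolayPt) s := by
  have : Fact (Nat.Prime 11) := ⟨by norm_num⟩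
  have : Fact (Nat.Prime 7) := ⟨by norm_num⟩
  have : Fact (Nat.Prime 5) := ⟨by norm_num⟩
  have : Fact (Nat.Prime 3) := ⟨by norm_num⟩
  obtain ⟨g11, hg11, ho11⟩ := exists_order_of_dvd (K := H) 11 (by rw [hc]; norm_num)
  obtain ⟨g7, hg7, ho7⟩ := exists_order_of_dvd (K := H) 7 (by rw [hc]; norm_num)
  have hF11 := fixF_card_eleven (hH hg11) ho11
  have hF7 := fixF_card_seven (hH hg7) ho7
  obtain ⟨u1, u2, hu12, hF⟩ := Finset.card_eq_two.mp hF11
  have hu1F : u1 ∈ fixF g11 := by rw [hF]; simp
  have hu2F : u2 ∈ fixF g11 := by rw [hF]; simp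
  -- the sizes of the orbits
  have hsize : ∀ a, ((orbF H a).card = 2 ∧ (orbF H a ∩ fixF g11).card = 2) ∨
      ((orbF H a).card = 22 ∧ (orbF H a ∩ fixF g11).card = 0) ∨
      ((orbF H a).card = 24 ∧ (orbF H a ∩ fixF g11).card = 2) := by
    intro a
    have h1 := orb_dvd hH [] a
    rw [fixL_nil_inf, card_fix1, hc] at h1
    have h11 := inv_modEq (inv_orbF H a) hg11 ho11
    have h7 := inv_modEq (inv_orbF H a) hg7 ho7
    have he11 : (orbF H a ∩ fixF g11).card ≤ 2 :=
      hF11 ▸ Finset.card_le_card Finset.inter_subset_right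
    have he7 : (orbF H a ∩ fixF g7).card ≤ 3 :=
      hF7 ▸ Finset.card_le_card Finset.inter_subset_right
    have hpos := orbF_card_pos H a
    have hle : (orbF H a).card ≤ 24 := by
      have := Finset.card_le_univ (orbF H a)
      rwa [card_golay] at this
    obtain ⟨k, hk⟩ := h1
    unfold Nat.ModEq at h11 h7
    generalize (orbF H a).card = n at *
    generalize (orbF H a ∩ fixF g11).card = e11 at *
    generalize (orbF H a ∩ fixF g7).card = e7 at *
    interval_cases n <;> omega
  rcases hsize u1 with ⟨h2, -⟩ | ⟨-, h0⟩ | ⟨h24, -⟩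
  · -- an invariant pair
    refine ⟨orbF H u1, h2, ?_⟩
    apply Subgroup.eq_of_le_of_card_ge
    · intro g hg
      rw [Subgroup.mem_inf]
      refine ⟨hH hg, ?_⟩
      rw [MulAction.mem_stabilizer_iff, smul_finset_eq_iff]
      exact fun a ha => smul_mem_orbF hg ha
    · rw [card_duad_stab _ h2, hc]
  · exfalso
    have : u1 ∈ orbF H u1 ∩ fixF g11 :=
      Finset.mem_inter.mpr ⟨self_mem_orbF H u1, hu1F⟩
    rw [Finset.card_eq_zero.mp h0] at this
    exact absurd this (Finset.notMem_empty _)
  · -- the transitive case is impossible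
    exfalso
    obtain ⟨x, hx⟩ : ∃ x, x = u1 := ⟨_, rfl⟩
    rw [← hx] at h24 hu1F hu12
    have hxF : g11 x = x := mem_fixF.mp hu1F
    have hK : Nat.card (H ⊓ fixL [x] : Subgroup (Equiv.Perm GolayPt)) = 36960 := by
      have := card_orb_mul H x
      rw [hc, h24] at this
      omega
    have hg11K : g11 ∈ H ⊓ fixL [x] := mem_inf_fixL.mpr ⟨hg11, by simpa using hxF⟩
    obtain ⟨g7', hg7', ho7'⟩ := exists_order_of_dvd (K := H ⊓ fixL [x]) 7 (by rw [hK]; norm_num)
    have hF7' := fixF_card_seven (hH (mem_inf_fixL.mp hg7').1) ho7'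
    have hsize' : ∀ a, a ≠ x →
        ((orbF (H ⊓ fixL [x]) a).card = 1 ∧ (orbF (H ⊓ fixL [x]) a ∩ fixF g11).card = 1) ∨
        ((orbF (H ⊓ fixL [x]) a).card = 22 ∧ (orbF (H ⊓ fixL [x]) a ∩ fixF g11).card = 0) := by
      intro a hax
      have hch := card_chain H [x] a
      rw [hK] at hch
      have h11 := inv_modEq (inv_orbF (H ⊓ fixL [x]) a) hg11K ho11
      have h7 := inv_modEq (inv_orbF (H ⊓ fixL [x]) a) hg7' ho7'
      have he11 := inter_fix_le (K := H) (l := [x]) (a := a) (g := g11) (by simp [hax]) (by simp)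
        (by simpa using hxF)
      have he7 := inter_fix_le (K := H) (l := [x]) (a := a) (g := g7') (by simp [hax]) (by simp)
        (mem_inf_fixL.mp hg7').2
      have hle := orbF_card_le (K := H) (l := [x]) (a := a) (by simp [hax]) (by simp)
      have hpos := orbF_card_pos (H ⊓ fixL [x]) a
      rw [hF11] at he11
      rw [hF7'] at he7
      simp only [List.length_singleton] at he11 he7 hle
      unfold Nat.ModEq at h11 h7
      generalize (orbF (H ⊓ fixL [x]) a).card = n at *
      generalize (orbF (H ⊓ fixL [x]) a ∩ fixF g11).card = e11 at *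
      generalize (orbF (H ⊓ fixL [x]) a ∩ fixF g7').card = e7 at *
      generalize Nat.card (H ⊓ fixL [a, x] : Subgroup (Equiv.Perm GolayPt)) = m at *
      have hn : n ≤ 23 := by omega
      interval_cases n <;> omega
    have hu2x : u2 ≠ x := hu12.symm
    have hy1 : (orbF (H ⊓ fixL [x]) u2).card = 1 := by
      rcases hsize' u2 hu2x with ⟨h, -⟩ | ⟨-, h0⟩
      · exact h
      · exfalso
        have : u2 ∈ orbF (H ⊓ fixL [x]) u2 ∩ fixF g11 :=
          Finset.mem_inter.mpr ⟨self_mem_orbF _ u2, hu2F⟩
        rw [Finset.card_eq_zero.mp h0] at this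
        exact absurd this (Finset.notMem_empty _)
    have h22 : ∀ z, z ≠ x → z ≠ u2 → (orbF (H ⊓ fixL [x]) z).card = 22 := by
      intro z hzx hzy
      rcases hsize' z hzx with ⟨h, -⟩ | ⟨h, -⟩
      · exfalso
        have hfix := fixed_of_orbF_card_one h hg11K
        have hz : z ∈ fixF g11 := mem_fixF.mpr hfix
        rw [hF, Finset.mem_insert, Finset.mem_singleton] at hz
        rcases hz with hz | hz
        · exact hzx (hz.trans hx.symm)
        · exact hzy hz
      · exact h
    obtain ⟨z, hzx, hzy⟩ : ∃ z : GolayPt, z ≠ x ∧ z ≠ u2 := by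
      by_contra hcon
      push Not at hcon
      have hsub : (Finset.univ : Finset GolayPt) ⊆ {x, u2} := by
        intro a _
        rw [Finset.mem_insert, Finset.mem_singleton]
        by_cases h : a = x
        · exact Or.inl h
        · exact Or.inr (hcon a h)
      have h1 := Finset.card_le_card hsub
      rw [Finset.card_univ, card_golay] at h1
      have h2 := Finset.card_le_two (a := x) (b := u2)
      omega
    have hF2 : Nat.card (H ⊓ fixL [z, x] : Subgroup (Equiv.Perm GolayPt)) = 1680 := by
      have := card_chain H [x] z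
      rw [hK, h22 z hzx hzy] at this
      omega
    have hFeq : H ⊓ fixL [z, x] = H ⊓ fixL [u2, z, x] := by
      apply le_antisymm
      · intro g hg
        have hg' := mem_inf_fixL.mp hg
        refine mem_inf_fixL.mpr ⟨hg'.1, ?_⟩
        intro b hb
        rcases List.mem_cons.mp hb with rfl | hb
        · exact fixed_of_orbF_card_one hy1 (fixL_cons_le H z [x] hg)
        · exact hg'.2 b hb
      · exact fixL_cons_le H u2 [z, x]
    rw [hFeq] at hF2
    have hnd3 : ([u2, z, x] : List GolayPt).Nodup := by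
      simp only [List.nodup_cons, List.mem_cons, List.not_mem_nil, or_false, not_or,
        List.nodup_nil, and_true, not_false_eq_true]
      exact ⟨⟨hzy.symm, hu2x⟩, hzx⟩
    obtain ⟨g5, hg5, ho5⟩ := exists_order_of_dvd (K := H ⊓ fixL [u2, z, x]) 5
      (by rw [hF2]; norm_num)
    obtain ⟨g3, hg3, ho3⟩ := exists_order_of_dvd (K := H ⊓ fixL [u2, z, x]) 3
      (by rw [hF2]; norm_num)
    have hF5 := fixF_card_five (hH (mem_inf_fixL.mp hg5).1) ho5
    have h80 : ∀ w, w ∉ ([u2, z, x] : List GolayPt) →
        Nat.card (H ⊓ fixL [w, u2, z, x] : Subgroup (Equiv.Perm GolayPt)) = 80 := by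
      intro w hw
      have hch := card_chain H [u2, z, x] w
      rw [hF2] at hch
      have hm := orb_dvd hH [u2, z, x] w
      rw [hF2, card_fix4 [w, u2, z, x] (List.nodup_cons.mpr ⟨hw, hnd3⟩) rfl] at hm
      have h5 := inv_modEq (inv_orbF (H ⊓ fixL [u2, z, x]) w) hg5 ho5
      have he5 := inter_fix_le (K := H) (l := [u2, z, x]) (a := w) (g := g5) hw hnd3
        (mem_inf_fixL.mp hg5).2
      have hle := orbF_card_le (K := H) (l := [u2, z, x]) (a := w) hw hnd3
      have hpos := orbF_card_pos (H ⊓ fixL [u2, z, x]) w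
      rw [hF5] at he5
      simp only [List.length_cons, List.length_nil] at he5 hle
      unfold Nat.ModEq at h5
      obtain ⟨k, hk⟩ := hm
      generalize (orbF (H ⊓ fixL [u2, z, x]) w).card = n at *
      generalize (orbF (H ⊓ fixL [u2, z, x]) w ∩ fixF g5).card = e5 at *
      generalize Nat.card (H ⊓ fixL [w, u2, z, x] : Subgroup (Equiv.Perm GolayPt)) = m at *
      have hn : n ≤ 21 := by omega
      interval_cases n <;> omega
    -- an element of order three fixes a further point
    have hg3' := mem_inf_fixL.mp hg3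
    have hx3 : x ∈ fixF g3 := mem_fixF.mpr (hg3'.2 x (by simp))
    have hF3 : (fixF g3).card = 6 := by
      rcases fixF_card_three (hH hg3'.1) ho3 with h | h
      · exact h
      · rw [Finset.card_eq_zero.mp h] at hx3
        exact absurd hx3 (Finset.notMem_empty _)
    obtain ⟨w, hw3, hwl⟩ : ∃ w ∈ fixF g3, w ∉ ([u2, z, x] : List GolayPt).toFinset := by
      apply Finset.exists_mem_notMem_of_card_lt_card
      rw [hF3, List.toFinset_card_of_nodup hnd3]
      simp
    rw [List.mem_toFinset] at hwl
    have hg3w : g3 ∈ H ⊓ fixL [w, u2, z, x] := by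
      refine mem_inf_fixL.mpr ⟨hg3'.1, ?_⟩
      intro b hb
      rcases List.mem_cons.mp hb with rfl | hb
      · exact mem_fixF.mp hw3
      · exact hg3'.2 b hb
    have hdvd : orderOf (⟨g3, hg3w⟩ : ↥(H ⊓ fixL [w, u2, z, x] : Subgroup (Equiv.Perm GolayPt))) ∣
        Nat.card (H ⊓ fixL [w, u2, z, x] : Subgroup (Equiv.Perm GolayPt)) := orderOf_dvd_natCard _
    rw [h80 w hwl, Subgroup.orderOf_mk, ho3] at hdvd
    omega

end Cfsg.Agent.Helper5.M24Sub
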