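import Mathlib
import Cfsg.Prelude.Def_Sporadic_a
import Cfsg.Prelude.Def_SporadicCombinatorics
import Cfsg.Agent.Helper5.M24Sub.P276
import Cfsg.Agent.Helper5.M24Sub.P253
import Cfsg.Agent.Helper5.M24Sub.P1771

set_option autoImplicit false

/-!
From subgroups of the permutation group back to subgroups of the group of the length-24 code.
-/

namespace Cfsg.Agent.Helper5.M24Sub

open Cfsg Cfsg.Agent.Helper9.Golay Cfsg.Agent.Helper9.M22Sub Cfsg.Agent.Helper9.M23Sub
open scoped Pointwise

theorem img_le (H : Subgroup ↥M24) : H.map M24.subtype ≤ M24 := by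
  intro g hg
  obtain ⟨y, -, rfl⟩ := Subgroup.mem_map.mp hg
  exact y.2

theorem card_img (H : Subgroup ↥M24) :
    Nat.card (H.map M24.subtype : Subgroup (Equiv.Perm GolayPt)) * H.index = 244823040 := by
  rw [Subgroup.card_map_of_injective (Subgroup.subtype_injective _), Subgroup.card_mul_index]
  exact card_M24

theorem transport {α : Type*} [MulAction (Equiv.Perm GolayPt) α] [MulAction ↥M24 α]
    (H : Subgroup ↥M24) (o : α)
    (hsmul : ∀ g : ↥M24, g • o = (g : Equiv.Perm GolayPt) • o)
    (h : H.map M24.subtype = M24 ⊓ MulAction.stabilizer (Equiv.Perm GolayPt) o) :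
    H = MulAction.stabilizer ↥M24 o := by
  ext g
  have h1 : g ∈ H ↔ (g : Equiv.Perm GolayPt) ∈ H.map M24.subtype := by
    constructor
    · intro hg; exact Subgroup.mem_map.mpr ⟨g, hg, rfl⟩
    · intro hg
      obtain ⟨y, hy, hyg⟩ := Subgroup.mem_map.mp hg
      have : y = g := Subtype.ext hyg
      exact this ▸ hy
  have h2 : g ∈ MulAction.stabilizer ↥M24 o ↔ (g : Equiv.Perm GolayPt) • o = o := by
    constructor
    · intro hh
      rw [← hsmul]
      exact MulAction.mem_stabilizer_iff.mp hh
    · intro hh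
      apply MulAction.mem_stabilizer_iff.mpr
      rw [hsmul]
      exact hh
  rw [h1, h2, h, Subgroup.mem_inf]
  constructor
  · intro hh; exact MulAction.mem_stabilizer_iff.mp hh.2
  · intro hh; exact ⟨g.2, MulAction.mem_stabilizer_iff.mpr hh⟩

end Cfsg.Agent.Helper5.M24Sub
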